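import Groth.Agent.Etcore.LocMap
import Groth.Agent.Sga4B.HVia
import Groth.Agent.Sga4B.ConstLC

/-!
# Calculus of global sections of pull backs of abelian étale sheaves

* `gp f G : Γ(Y, G) → Γ(X, f⁻¹G)`, `gpV f t w G : Γ(Y, t⁻¹G) → Γ(X, f₀⁻¹G)` for `f ≫ t = f₀`.
* `lo V F : F(V) → Γ(V.left, F|_V)` bijective; compatibility `gpV_lo`, `gp_lo`.
* `H0_hpVia`: these are the maps of `HpullCalc` in degree zero.
* constants: `cst` and `gp`; `cst_bijective` on connected schemes.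
-/

set_option autoImplicit false
universe u
open CategoryTheory CategoryTheory.Limits AlgebraicGeometry Opposite

namespace Groth.Agent.Sga4h.H917.GSec

open Groth.Agent.Etcore.LocSec Groth.Agent.Etcore.Loc Groth.Agent.Etcore.LocMap
open Groth.Agent.Etcore.LocEt Groth.Agent.Etcore.HpullCalc Groth.Agent.Etcore.EtInst
open Groth.Agent.Etcore.PullCoh Groth.Agent.Sga4B.HVia
open scoped Groth.Agent.Etcore.EtInst

variable {X Y Z T : Scheme.{u}}

/-- Pull back of global sections. -/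
noncomputable def gp (f : X ⟶ Y) (G : EtCoh.Ab Y) :
    EtCoh.sect G (EtCoh.top Y) →+ EtCoh.sect ((EtCoh.pull f).obj G) (EtCoh.top X) :=
  Etcore.LocSec.secPull f (EtCore.bcTopIso f).inv G

theorem gp_apply (f : X ⟶ Y) (G : EtCoh.Ab Y) (s : EtCoh.sect G (EtCoh.top Y)) :
    gp f G s = Etcore.LocSec.secPull f (EtCore.bcTopIso f).inv G s := rfl

theorem gp_eq_unitSec (f : X ⟶ Y) (G : EtCoh.Ab Y) (s : EtCoh.sect G (EtCoh.top Y)) :
    gp f G s = (unitSec f G).hom s := rfl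

/-- The comparison `f⁻¹ t⁻¹ G ⟶ f₀⁻¹ G`. -/
noncomputable abbrev thh (f : X ⟶ Y) (t : Y ⟶ Z) {f₀ : X ⟶ Z} (w : f ≫ t = f₀) (G : EtCoh.Ab Z) :
    (EtCoh.pull f).obj ((EtCoh.pull t).obj G) ⟶ (EtCoh.pull f₀).obj G :=
  (Etcore.Loc.theta f t w).hom.app G

instance (f : X ⟶ Y) (t : Y ⟶ Z) {f₀ : X ⟶ Z} (w : f ≫ t = f₀) (G : EtCoh.Ab Z) :
    IsIso (thh f t w G) := inferInstanceAs (IsIso ((Etcore.Loc.theta f t w).hom.app G))

/-- Relative pull back of global sections. -/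
noncomputable def gpV (f : X ⟶ Y) (t : Y ⟶ Z) {f₀ : X ⟶ Z} (w : f ≫ t = f₀) (G : EtCoh.Ab Z) :
    EtCoh.sect ((EtCoh.pull t).obj G) (EtCoh.top Y) →+
      EtCoh.sect ((EtCoh.pull f₀).obj G) (EtCoh.top X) :=
  (app (thh f t w G) (EtCoh.top X)).comp (gp f _)

theorem gpV_apply (f : X ⟶ Y) (t : Y ⟶ Z) {f₀ : X ⟶ Z} (w : f ≫ t = f₀) (G : EtCoh.Ab Z)
    (s : EtCoh.sect ((EtCoh.pull t).obj G) (EtCoh.top Y)) :
    gpV f t w G s = app (thh f t w G) (EtCoh.top X) (gp f _ s) := rfl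

theorem gp_map (f : X ⟶ Y) {G G' : EtCoh.Ab Y} (a : G ⟶ G') (s : EtCoh.sect G (EtCoh.top Y)) :
    gp f G' (app a _ s) = app ((EtCoh.pull f).map a) _ (gp f G s) :=
  (secPull_map f (EtCore.bcTopIso f).inv a s).symm

theorem thh_nat (f : X ⟶ Y) (t : Y ⟶ Z) {f₀ : X ⟶ Z} (w : f ≫ t = f₀) {G G' : EtCoh.Ab Z}
    (a : G ⟶ G') : (EtCoh.pull f).map ((EtCoh.pull t).map a) ≫ thh f t w G' =
      thh f t w G ≫ (EtCoh.pull f₀).map a :=
  (Etcore.Loc.theta f t w).hom.naturality a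

theorem gpV_map (f : X ⟶ Y) (t : Y ⟶ Z) {f₀ : X ⟶ Z} (w : f ≫ t = f₀) {G G' : EtCoh.Ab Z}
    (a : G ⟶ G') (s : EtCoh.sect ((EtCoh.pull t).obj G) (EtCoh.top Y)) :
    gpV f t w G' (app ((EtCoh.pull t).map a) _ s) = app ((EtCoh.pull f₀).map a) _ (gpV f t w G s) := by
  rw [gpV_apply, gpV_apply, gp_map, ← app_comp, ← app_comp, thh_nat]

theorem gpV_gp (f : X ⟶ Y) (t : Y ⟶ Z) {f₀ : X ⟶ Z} (w : f ≫ t = f₀) (G : EtCoh.Ab Z)
    (s : EtCoh.sect G (EtCoh.top Z)) : gpV f t w G (gp t G s) = gp f₀ G s := by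
  rw [gpV_apply, gp_apply, gp_apply, gp_apply]
  refine (theta_secPull f t w s (EtCore.bcTopIso t).inv (EtCore.bcTopIso f).inv).trans ?_
  congr 1
  exact congrArg (fun k => Etcore.LocSec.secPull f₀ k G) ((EtCore.bcTopIsTerminal f₀).hom_ext _ _)

theorem thh_eq_th (f : X ⟶ Y) (t : Y ⟶ Z) {f₀ : X ⟶ Z} (w : f ≫ t = f₀) (G : EtCoh.Ab Z) :
    thh f t w G = th f t f₀ w G := by
  subst w
  rfl

/-- Degree zero of `hpVia`. -/
theorem H0_hpVia (f : X ⟶ Y) (t : Y ⟶ Z) (f₀ : X ⟶ Z) (w : f ≫ t = f₀) (G : EtCoh.Ab Z)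
    (x : HH Y ((EtCoh.pull t).obj G) 0) :
    H0 X _ (hpVia f t f₀ w G 0 x) = gpV f t w G (H0 Y _ x) := by
  rw [hpVia_eq_th, H0_map, gpV_apply, thh_eq_th, gp_eq_unitSec, ← hp_zero f _ x]
  rfl

theorem H0_hp (f : X ⟶ Y) (G : EtCoh.Ab Y) (x : HH Y G 0) :
    H0 X _ (hp f G 0 x) = gp f G (H0 Y _ x) := hp_zero f G x

/-- Relative pull backs compose. -/
theorem gpV_comp (f : X ⟶ Y) (t : Y ⟶ Z) (s : Z ⟶ T)
    {ft : X ⟶ Z} {ts : Y ⟶ T} {fts : X ⟶ T} (w₁ : f ≫ t = ft) (w₂ : t ≫ s = ts)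
    (w₃ : f ≫ ts = fts) (w₄ : ft ≫ s = fts) (G : EtCoh.Ab T)
    (x : EtCoh.sect ((EtCoh.pull s).obj G) (EtCoh.top Z)) :
    gpV f ts w₃ G (gpV t s w₂ G x) = gpV ft s w₄ G x := by
  obtain ⟨y, rfl⟩ := (H0 Z _).surjective x
  rw [← H0_hpVia, ← H0_hpVia, ← H0_hpVia, hpVia_comp f t s ft ts fts w₁ w₂ w₃ w₄ G 0 y]

/-- Change of the base of relative pull back. -/
theorem gpV_conv (f : X ⟶ Y) (t : Y ⟶ Z) (s : Z ⟶ T)
    {ft : X ⟶ Z} {ts : Y ⟶ T} {fts : X ⟶ T} (w₁ : f ≫ t = ft) (w₂ : t ≫ s = ts)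
    (w₃ : f ≫ ts = fts) (w₄ : ft ≫ s = fts) (G : EtCoh.Ab T)
    (x : EtCoh.sect ((EtCoh.pull t).obj ((EtCoh.pull s).obj G)) (EtCoh.top Y)) :
    app (thh ft s w₄ G) _ (gpV f t w₁ ((EtCoh.pull s).obj G) x) =
      gpV f ts w₃ G (app (thh t s w₂ G) _ x) := by
  obtain ⟨y, rfl⟩ := (H0 Y _).surjective x
  have h := congrArg (H0 X _) (hpVia_conv f t s ft ts fts w₁ w₂ w₃ w₄ G 0 y)
  rw [H0_map, H0_hpVia, H0_hpVia, H0_map, ← thh_eq_th, ← thh_eq_th] at h
  exact h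

/-- Sections over `V` as global sections of the restriction. -/
noncomputable def lo (V : X.Etale) (F : EtCoh.Ab X) :
    EtCoh.sect F V →+ EtCoh.sect ((EtCoh.pull V.hom).obj F) (EtCoh.top V.left) :=
  Etcore.LocSec.secPull V.hom (Etcore.LocMap.diag V) F

theorem lo_bijective (V : X.Etale) (F : EtCoh.Ab X) : Function.Bijective (lo V F) :=
  secPull_bijective V.hom (Etcore.LocMap.diag V) F

theorem lo_map (V : X.Etale) {F G : EtCoh.Ab X} (a : F ⟶ G) (s : EtCoh.sect F V) :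
    lo V G (app a V s) = app ((EtCoh.pull V.hom).map a) _ (lo V F s) :=
  (secPull_map V.hom (Etcore.LocMap.diag V) a s).symm

theorem gpV_lo {V V' : X.Etale} (g : V' ⟶ V) (w : g.left ≫ V.hom = V'.hom) (F : EtCoh.Ab X)
    (s : EtCoh.sect F V) : gpV g.left V.hom w F (lo V F s) = lo V' F (res F g s) := by
  rw [gpV_apply, gp_apply]
  refine (theta_secPull g.left V.hom w s (Etcore.LocMap.diag V) (EtCore.bcTopIso g.left).inv).trans ?_
  rw [bc_diag g w, ← diag_bc g w, secPull_bc]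
  rfl

theorem gp_lo (V : X.Etale) (F : EtCoh.Ab X) (s : EtCoh.sect F (EtCoh.top X)) :
    gp V.hom F s = lo V F (res F (Etcore.LocMap.toTop V) s) := by
  rw [lo, ← secPull_bc, gp_apply]
  congr 1
  exact congrArg (fun k => Etcore.LocSec.secPull V.hom k F) ((EtCore.bcTopIsTerminal V.hom).hom_ext _ _)

/-! ### Constant sheaves -/

theorem gp_cst (f : X ⟶ Y) (M : Type) [AddCommGroup M] (m : ULift.{u + 1} M) :
    app (EtCore.pullConst f M).hom _ (gp f _ (cst Y M m)) = cst X M m := by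
  have h := pullConst_unit f M m
  have h1 : app (EtCore.pullConst f M).hom _ (gp f _ (cst Y M m)) =
      res (EtCoh.const X M) (EtCore.bcTopIso f).inv
        (((EtCore.pullConst f M).hom).hom.app _ (eta f _ _ (cst Y M m))) := by
    rw [gp_apply, secPull_apply, ← res_app]
    rfl
  rw [h1, h]
  have h2 := res_res (EtCoh.const X M) (EtCore.bcTopIso f).inv (Etcore.PullCoh.toTop _) (cst X M m)
  refine h2.trans ?_
  rw [(EtCore.topIsTerminal X).hom_ext ((EtCore.bcTopIso f).inv ≫ Etcore.PullCoh.toTop _) (𝟙 _), Etcore.LocSec.res_id]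

theorem cst_add (X : Scheme.{u}) (M : Type) [AddCommGroup M] (m m' : ULift.{u + 1} M) :
    cst X M (m + m') = cst X M m + cst X M m' :=
  map_add ((EtCore.constAdj X).unit.app (AddCommGrpCat.of (ULift.{u + 1} M))).hom m m'

theorem app_constIso_cst (X : Scheme.{u}) (M : Type) [AddCommGroup M] (m : ULift.{u + 1} M) :
    app (Sga4B.ConstLC.constIso X M).hom (EtCoh.top X) (cst X M m) =
      Sga4B.ConstLC.constSec (ULift.{u + 1} M) (EtCoh.top X) m := by
  have h := congrArg (fun k => k.app (op (EtCoh.top X)))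
    (Sga4B.ConstLC.toSheafify_constToLC X (ULift.{u + 1} M))
  exact ConcreteCategory.congr_hom h m

theorem constSec_bijective (X : Scheme.{u}) [ConnectedSpace X] (A : Type (u + 1)) [AddCommGroup A] :
    Function.Bijective (Sga4B.ConstLC.constSec A (EtCoh.top X)) := by
  constructor
  · intro a b h
    exact DFunLike.congr_fun (F := LocallyConstant X A) h (Classical.arbitrary X)
  · intro (f : LocallyConstant X A)
    refine ⟨f (Classical.arbitrary X), ?_⟩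
    change LocallyConstant.const X (f (Classical.arbitrary X)) = f
    ext x
    exact f.isLocallyConstant.apply_eq_of_preconnectedSpace (Classical.arbitrary X) x

/-- On a connected scheme the global sections of a constant sheaf are the constants. -/
theorem cst_bijective (X : Scheme.{u}) [ConnectedSpace X] (M : Type) [AddCommGroup M] :
    Function.Bijective (cst X M) := by
  have h1 : app (Sga4B.ConstLC.constIso X M).hom (EtCoh.top X) ∘ cst X M =
      Sga4B.ConstLC.constSec (ULift.{u + 1} M) (EtCoh.top X) := funext (app_constIso_cst X M)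
  have h2 := constSec_bijective X (ULift.{u + 1} M)
  rw [← h1] at h2
  exact (Function.Bijective.of_comp_iff' (app_bijective _ _) _).1 h2

end Groth.Agent.Sga4h.H917.GSec
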