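import Groth.Agent.Sga4h.H917.Desc

/-!
# Formal properties of `LangSh.IsConstOn`
-/

set_option autoImplicit false
universe u

open CategoryTheory CategoryTheory.Limits AlgebraicGeometry Opposite

namespace Groth.Agent.Sga4h.H917.ConstOn

variable {Λ : Type} [CommRing Λ]

/-- Two isomorphic pull-back functors give the same notion. -/
theorem of_natIso {X Y : Scheme.{u}} {G : EtCoh.Ab X ⥤ EtCoh.Ab Y} (π : Y ⟶ X)
    (e : G ≅ EtCoh.pull π) (L : EtLam.Sheaf Λ X)
    (h : ∃ a : G.obj L.carrier ≅ EtCoh.const Y Λ,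
      ∀ r : Λ, G.map (L.act r) ≫ a.hom = a.hom ≫ FinFr.constSMul Y r) :
    LangSh.IsConstOn π L := by
  obtain ⟨a, ha⟩ := h
  refine ⟨(e.app _).symm ≪≫ a, fun r => ?_⟩
  rw [Iso.trans_hom, Iso.symm_hom, Iso.app_inv, Category.assoc, ← ha]
  exact e.inv.naturality_assoc (L.act r) a.hom

theorem congr {X Y : Scheme.{u}} {π π' : Y ⟶ X} (h : π = π') (L : EtLam.Sheaf Λ X)
    (hL : LangSh.IsConstOn π L) : LangSh.IsConstOn π' L := h ▸ hL

/-- `L` constant on `f ≫ g` iff `g^* L` constant on `f`. -/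
theorem pullback_of_comp {X Y Z : Scheme.{u}} (f : Z ⟶ Y) (g : Y ⟶ X) (L : EtLam.Sheaf Λ X)
    (h : LangSh.IsConstOn (f ≫ g) L) : LangSh.IsConstOn f (EtLam.pullback g L) := by
  obtain ⟨a, ha⟩ := h
  refine ⟨((EtCore.pullComp f g).symm.app _) ≪≫ a, fun r => ?_⟩
  rw [Iso.trans_hom, Iso.app_hom, Category.assoc, ← ha]
  exact (EtCore.pullComp f g).inv.naturality_assoc (L.act r) a.hom

theorem comp_of_pullback {X Y Z : Scheme.{u}} (f : Z ⟶ Y) (g : Y ⟶ X) (L : EtLam.Sheaf Λ X)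
    (h : LangSh.IsConstOn f (EtLam.pullback g L)) : LangSh.IsConstOn (f ≫ g) L := by
  obtain ⟨a, ha⟩ := h
  refine ⟨((EtCore.pullComp f g).app L.carrier) ≪≫ a, fun r => ?_⟩
  have h1 := (EtCore.pullComp f g).hom.naturality_assoc (L.act r) a.hom
  exact h1.trans (congrArg (fun z => (EtCore.pullComp f g).hom.app L.carrier ≫ z) (ha r))

/-- A constant sheaf stays constant after pull-back. -/
theorem comp {X Y Z : Scheme.{u}} (f : Z ⟶ Y) (g : Y ⟶ X) (L : EtLam.Sheaf Λ X)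
    (h : LangSh.IsConstOn g L) : LangSh.IsConstOn (f ≫ g) L := by
  obtain ⟨a, ha⟩ := h
  refine comp_of_pullback f g L ⟨(EtCoh.pull f).mapIso a ≪≫ EtCore.pullConst f Λ, fun r => ?_⟩
  have h1 : (EtCoh.pull f).map ((EtCoh.pull g).map (L.act r)) ≫ (EtCoh.pull f).map a.hom =
      (EtCoh.pull f).map a.hom ≫ (EtCoh.pull f).map (FinFr.constSMul Y r) := by
    rw [← Functor.map_comp, ← Functor.map_comp, ha]
  have h2 : (EtCoh.pull f).map (FinFr.constSMul Y r) ≫ (EtCore.pullConst f Λ).hom =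
      (EtCore.pullConst f Λ).hom ≫ FinFr.constSMul Z r :=
    (EtCore.pullConstIso f).hom.naturality _
  change (EtCoh.pull f).map ((EtCoh.pull g).map (L.act r)) ≫
    (EtCoh.pull f).map a.hom ≫ (EtCore.pullConst f Λ).hom = _
  rw [← Category.assoc, h1, Category.assoc, h2, Iso.trans_hom, Category.assoc]
  rfl

/-- There are no nonzero maps from a constant sheaf to a sheaf without global sections. -/
theorem hom_const_eq_zero {X : Scheme.{u}} (M : Type) [AddCommGroup M] (A : EtCoh.Ab X)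
    (h0 : ∀ s : EtCoh.sect A (EtCoh.top X), s = 0) (f : EtCoh.const X M ⟶ A) : f = 0 := by
  have h1 : IsZero ((EtCore.gsec X).obj A) := by
    rw [AddCommGrpCat.isZero_iff_subsingleton] 
    exact ⟨fun a b => (h0 a).trans (h0 b).symm⟩
  have h2 := (EtCore.constAdj X).homEquiv (AddCommGrpCat.of (ULift.{u + 1} M)) A
  exact h2.injective (h1.eq_of_tgt _ _)

end Groth.Agent.Sga4h.H917.ConstOn
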