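import Groth.Agent.Sga4h.H917.KumCover
import Mathlib.FieldTheory.IsAlgClosed.Basic
import Mathlib.AlgebraicGeometry.ResidueField
import Groth.Agent.Etbase.EtGlue

/-!
# The power maps of `𝔾_m` as étale coverings and their deck transformations
-/

set_option autoImplicit false
universe u

open CategoryTheory CategoryTheory.Limits AlgebraicGeometry Polynomial Opposite
open scoped LaurentPolynomial

namespace Groth.Agent.Sga4h.H917.KumSch

open Groth.Agent.Sga4h.H917.KumCover

/-! ### Values of morphisms to affine schemes -/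

section Val

variable {Z Z' : Scheme.{u}} {S S' : Type u} [CommRing S] [CommRing S']

/-- The ring map attached to a morphism to an affine scheme. -/
noncomputable def val (g : Z ⟶ Spec (CommRingCat.of S)) : S →+* Γ(Z, ⊤) :=
  ((Scheme.ΓSpecIso (CommRingCat.of S)).inv ≫ g.appTop).hom

theorem val_apply (g : Z ⟶ Spec (CommRingCat.of S)) (a : S) :
    val g a = g.appTop.hom ((Scheme.ΓSpecIso (CommRingCat.of S)).inv.hom a) := rfl

theorem val_comp (h : Z' ⟶ Z) (g : Z ⟶ Spec (CommRingCat.of S)) (a : S) :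
    val (h ≫ g) a = h.appTop.hom (val g a) := by
  rw [val_apply, Scheme.Hom.comp_appTop]
  rfl

theorem val_spec (g : Z ⟶ Spec (CommRingCat.of S)) (φ : S' →+* S) (a : S') :
    val (g ≫ Spec.map (CommRingCat.ofHom φ)) a = val g (φ a) := by
  have h : (Scheme.ΓSpecIso (CommRingCat.of S')).inv ≫ (Spec.map (CommRingCat.ofHom φ)).appTop =
      CommRingCat.ofHom φ ≫ (Scheme.ΓSpecIso (CommRingCat.of S)).inv :=
    (Scheme.ΓSpecIso_inv_naturality (CommRingCat.ofHom φ)).symm
  have h2 : (Spec.map (CommRingCat.ofHom φ)).appTop.hom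
      ((Scheme.ΓSpecIso (CommRingCat.of S')).inv.hom a) =
      (Scheme.ΓSpecIso (CommRingCat.of S)).inv.hom (φ a) := congrArg (fun k => k.hom a) h
  rw [val_apply, Scheme.Hom.comp_appTop]
  exact congrArg g.appTop.hom h2

theorem val_ext {f g : Z ⟶ Spec (CommRingCat.of S)} (h : val f = val g) : f = g := by
  apply ext_of_isAffine
  rw [← cancel_epi (Scheme.ΓSpecIso (CommRingCat.of S)).inv]
  exact CommRingCat.hom_ext h

/-- The morphism with given values. -/
noncomputable def ofVal (φ : S →+* Γ(Z, ⊤)) : Z ⟶ Spec (CommRingCat.of S) :=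
  Z.toSpecΓ ≫ Spec.map (CommRingCat.ofHom φ)

theorem val_ofVal (φ : S →+* Γ(Z, ⊤)) : val (ofVal φ : Z ⟶ Spec (CommRingCat.of S)) = φ := by
  ext a
  have h := val_spec (S := Γ(Z, ⊤)) Z.toSpecΓ φ a
  refine h.trans ?_
  have h2 : (Scheme.ΓSpecIso Γ(Z, ⊤)).inv ≫ Z.toSpecΓ.appTop = 𝟙 _ := by
    rw [Scheme.toSpecΓ_appTop, Iso.inv_hom_id]
  exact congrArg (fun k => k.hom (φ a)) h2

end Val

section Pw

variable (K : Type u) [CommRing K]

/-- The multiplicative group over `K`. -/
noncomputable abbrev Gm : Scheme.{u} := Spec (CommRingCat.of K[T;T⁻¹])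

/-- The structure morphism. -/
noncomputable abbrev str : Gm K ⟶ Spec (CommRingCat.of K) :=
  Spec.map (CommRingCat.ofHom (LaurentPolynomial.C : K →+* K[T;T⁻¹]))

/-- The `d`-th power map. -/
noncomputable def pw (d : ℕ) : Gm K ⟶ Gm K := Spec.map (CommRingCat.ofHom (phi K d))

variable {K}

/-- Multiplication by a constant. -/
noncomputable def scl (c : Kˣ) : Gm K ⟶ Gm K := Spec.map (CommRingCat.ofHom (sclHom c))

theorem pw_str (d : ℕ) : pw K d ≫ str K = str K := by
  rw [pw, str, ← Spec.map_comp]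
  exact congrArg Spec.map (CommRingCat.hom_ext (RingHom.ext fun a => toEnd_C _ a))

theorem scl_str (c : Kˣ) : scl c ≫ str K = str K := by
  rw [scl, str, ← Spec.map_comp]
  exact congrArg Spec.map (CommRingCat.hom_ext (RingHom.ext fun a => toEnd_C _ a))

theorem pw_pw (d e : ℕ) : pw K e ≫ pw K d = pw K (d * e) := by
  rw [pw, pw, pw, ← Spec.map_comp, ← phi_comp]
  rfl

theorem scl_pw (c : Kˣ) (d : ℕ) (hc : c ^ d = 1) : scl c ≫ pw K d = pw K d := by
  rw [scl, pw, ← Spec.map_comp]
  exact congrArg (fun k => Spec.map (CommRingCat.ofHom k)) (sclHom_phi c d hc)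

theorem scl_scl (c c' : Kˣ) : scl c ≫ scl c' = scl (c * c') := by
  rw [scl, scl, ← Spec.map_comp]
  exact congrArg (fun k => Spec.map (CommRingCat.ofHom k)) (sclHom_comp c c')

theorem scl_one : scl (1 : Kˣ) = 𝟙 (Gm K) := by
  rw [scl, sclHom_one]
  exact Spec.map_id _

/-- Morphisms to `𝔾_m` are determined by the structure morphism and the value of the coordinate. -/
theorem hom_ext {Z : Scheme.{u}} {f g : Z ⟶ Gm K} (h1 : f ≫ str K = g ≫ str K)
    (h2 : val f (LaurentPolynomial.T 1) = val g (LaurentPolynomial.T 1)) : f = g := by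
  apply val_ext
  apply KumCover.ringHom_ext
  · intro a
    rw [← val_spec, ← val_spec]
    exact congrArg (fun k => val k a) h1
  · exact h2

theorem val_pw {Z : Scheme.{u}} (f : Z ⟶ Gm K) (d : ℕ) :
    val (f ≫ pw K d) (LaurentPolynomial.T 1) = val f (LaurentPolynomial.T 1) ^ d := by
  rw [pw, val_spec, phi_T', map_pow]

theorem val_scl {Z : Scheme.{u}} (f : Z ⟶ Gm K) (c : Kˣ) :
    val (f ≫ scl c) (LaurentPolynomial.T 1) = val (f ≫ str K) (c : K) * val f (LaurentPolynomial.T 1) := by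
  rw [scl, val_spec, sclHom_T, map_mul, str, val_spec]

/-! ### Finite étale -/

/-- The isomorphism of `𝔾_m` with the Kummer covering. -/
noncomputable def kumIso (d : ℕ) (hd : d ≠ 0) : Gm K ⟶ Spec (CommRingCat.of (Kum K d)) :=
  Spec.map (CommRingCat.ofHom (kumTo K d))

instance isIso_kumIso (d : ℕ) (hd : d ≠ 0) : IsIso (kumIso (K := K) d hd) := by
  have : IsIso (CommRingCat.ofHom (kumTo K d)) :=
    (ConcreteCategory.isIso_iff_bijective _).2 (kumEquiv K d hd).bijective
  rw [kumIso]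
  infer_instance

theorem kumIso_cover (d : ℕ) (hd : d ≠ 0) :
    kumIso d hd ≫ LangSh.cover K[T;T⁻¹] (Kum K d) = pw K d := by
  rw [kumIso, pw, ← Spec.map_comp]
  exact congrArg Spec.map (CommRingCat.hom_ext (RingHom.ext fun a => kumTo_of d a))

theorem etale_kum (d : ℕ) (hd : IsUnit (d : K)) (hd0 : d ≠ 0) : Algebra.Etale K[T;T⁻¹] (Kum K d) := by
  apply Hensel.FiniteEtaleLift.etale_adjoinRoot _ (monic_X_pow_sub_C _ hd0)
  have h1 : IsUnit (d : K[T;T⁻¹]) := by
    have := hd.map (LaurentPolynomial.C : K →+* K[T;T⁻¹])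
    rwa [map_natCast] at this
  exact separable_X_pow_sub_C_unit (uT K) h1

theorem etale_pw (d : ℕ) (hd : IsUnit (d : K)) (hd0 : d ≠ 0) : Etale (pw K d) := by
  have h2 := etale_kum d hd hd0
  have h3 : Etale (LangSh.cover K[T;T⁻¹] (Kum K d)) := by
    rw [HasRingHomProperty.Spec_iff (P := @Etale)]
    exact RingHom.etale_algebraMap.2 h2
  rw [← kumIso_cover d hd0]
  infer_instance

theorem finite_cover (d : ℕ) (hd0 : d ≠ 0) : IsFinite (LangSh.cover K[T;T⁻¹] (Kum K d)) := by
  have h := (monic_X_pow_sub_C (LaurentPolynomial.T 1 : K[T;T⁻¹]) hd0).finite_adjoinRoot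
  rw [LangSh.cover, IsFinite.SpecMap_iff]
  exact RingHom.finite_algebraMap.2 h

theorem isFinite_pw (d : ℕ) (hd0 : d ≠ 0) : IsFinite (pw K d) := by
  have := finite_cover (K := K) d hd0
  rw [← kumIso_cover d hd0]
  infer_instance

theorem flat_cover (d : ℕ) (hd0 : d ≠ 0) : Flat (LangSh.cover K[T;T⁻¹] (Kum K d)) := by
  have h := (monic_X_pow_sub_C (LaurentPolynomial.T 1 : K[T;T⁻¹]) hd0).free_adjoinRoot
  rw [LangSh.cover, Flat.SpecMap_iff]
  exact RingHom.flat_algebraMap_iff.2 inferInstance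

theorem finrank_pw [Nontrivial K] (d : ℕ) (hd0 : d ≠ 0) (s : Gm K) : (pw K d).finrank s = d := by
  have h1 := (monic_X_pow_sub_C (LaurentPolynomial.T 1 : K[T;T⁻¹]) hd0).free_adjoinRoot
  have h2 := (monic_X_pow_sub_C (LaurentPolynomial.T 1 : K[T;T⁻¹]) hd0).finite_adjoinRoot
  have := finite_cover (K := K) d hd0
  have := flat_cover (K := K) d hd0
  rw [← kumIso_cover d hd0, Scheme.Hom.finrank_comp_left_of_isIso]
  refine (Scheme.Hom.finrank_SpecMap_algebraMap K[T;T⁻¹] (Kum K d) s).trans ?_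
  rw [Module.rankAtStalk_eq_finrank_of_free]
  have h3 := (AdjoinRoot.powerBasis' (monic_X_pow_sub_C (LaurentPolynomial.T 1 : K[T;T⁻¹]) hd0)).finrank
  rw [AdjoinRoot.powerBasis'_dim, natDegree_X_pow_sub_C] at h3
  exact h3

theorem surjective_pw [Nontrivial K] (d : ℕ) (hd0 : d ≠ 0) : Surjective (pw K d) := by
  have := isFinite_pw (K := K) d hd0
  have : Flat (pw K d) := by
    have := flat_cover (K := K) d hd0
    rw [← kumIso_cover d hd0]
    infer_instance
  rw [← Scheme.Hom.one_le_finrank_iff_surjective]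
  intro s
  rw [finrank_pw d hd0]
  exact Nat.one_le_iff_ne_zero.2 hd0

end Pw

end Groth.Agent.Sga4h.H917.KumSch
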