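import Groth.Agent.Sga4h.H917.KumSch
import Mathlib.Algebra.Ring.GeomSum
import Groth.Agent.Etbase.EtGlue

/-!
# Deck transformations of the power maps of `𝔾_m` over an algebraically closed field
-/

set_option autoImplicit false
universe u

open CategoryTheory CategoryTheory.Limits AlgebraicGeometry Polynomial Opposite
open scoped LaurentPolynomial

namespace Groth.Agent.Sga4h.H917.KumDeck

open Groth.Agent.Sga4h.H917.KumCover Groth.Agent.Sga4h.H917.KumSch

variable {K : Type u} [Field K]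

/-- The étale covering `pw K d` as an object of the small étale site. -/
noncomputable abbrev VE (d : ℕ) (h : Etale (pw K d)) : (Gm K).Etale := Scheme.Etale.mk (pw K d)

/-- The deck transformation. -/
noncomputable def sig (d : ℕ) (h : Etale (pw K d)) (c : Kˣ) (hc : c ^ d = 1) : End (VE d h) :=
  MorphismProperty.Over.homMk (scl c) (scl_pw c d hc) trivial

theorem sig_left (d : ℕ) (h : Etale (pw K d)) (c : Kˣ) (hc : c ^ d = 1) :
    (sig d h c hc : VE d h ⟶ VE d h).left = scl c := rfl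

theorem sig_pow (d : ℕ) (h : Etale (pw K d)) (c : Kˣ) (hc : c ^ d = 1) (n : ℕ)
    (hn : (c ^ n) ^ d = 1) : (sig d h c hc) ^ n = sig d h (c ^ n) hn := by
  induction n with
  | zero =>
    rw [pow_zero, End.one_def]
    apply MorphismProperty.Over.Hom.ext
    change 𝟙 (Gm K) = scl (c ^ 0)
    rw [pow_zero, scl_one]
  | succ n ih =>
    have hn' : (c ^ n) ^ d = 1 := by rw [← pow_mul, mul_comm, pow_mul, hc, one_pow]
    rw [pow_succ, ih hn', End.mul_def]
    apply MorphismProperty.Over.Hom.ext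
    change scl c ≫ scl (c ^ n) = scl (c ^ (n + 1))
    rw [scl_scl, pow_succ']

theorem isUnit_basicOpen {X : Scheme.{u}} (f : Γ(X, ⊤)) :
    IsUnit ((X.basicOpen f).ι.appTop.hom f) := by
  have h1 : (X.basicOpen f : Scheme.{u}).basicOpen ((X.basicOpen f).ι.appTop f) = ⊤ := by
    have := Scheme.preimage_basicOpen (X.basicOpen f).ι f
    refine this.symm.trans ?_
    simp
  refine RingedSpace.isUnit_of_isUnit_germ _ _ _ (fun x hx => ?_)
  have h2 : x ∈ (X.basicOpen f : Scheme.{u}).basicOpen ((X.basicOpen f).ι.appTop f) := by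
    rw [h1]; trivial
  exact (Scheme.mem_basicOpen _ _ _ hx).1 h2

/-- Two maps to `𝔾_m` with the same `d`-th power differ locally by a root of unity. -/
theorem exists_root [IsAlgClosed K] (d : ℕ) (hd : (d : K) ≠ 0)
    (T : Scheme.{u}) (c g : T ⟶ Gm K) (hw : c ≫ pw K d = g ≫ pw K d) (t : T) :
    ∃ (a : Kˣ) (_ : a ^ d = 1) (U : T.Opens) (_ : t ∈ U), U.ι ≫ g = U.ι ≫ c ≫ scl a := by
  have hd0 : d ≠ 0 := by rintro rfl; simp at hd
  have hstr : c ≫ str K = g ≫ str K := by
    rw [← pw_str (K := K) d, ← Category.assoc, hw, Category.assoc]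
  obtain ⟨x, hxdef⟩ : ∃ x : Γ(T, ⊤), x = val c (LaurentPolynomial.T 1) := ⟨_, rfl⟩
  obtain ⟨y, hydef⟩ : ∃ y : Γ(T, ⊤), y = val g (LaurentPolynomial.T 1) := ⟨_, rfl⟩
  have hxy : x ^ d = y ^ d := by
    have h1 : val (c ≫ pw K d) (LaurentPolynomial.T 1) =
      val (g ≫ pw K d) (LaurentPolynomial.T 1) := by rw [hw]
    rw [val_pw, val_pw, ← hxdef, ← hydef] at h1
    exact h1
  have hx : IsUnit x := hxdef ▸ (LaurentPolynomial.isUnit_T 1).map (val c)
  have hy : IsUnit y := hydef ▸ (LaurentPolynomial.isUnit_T 1).map (val g)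
  obtain ⟨ev, hevdef⟩ : ∃ ev : Γ(T, ⊤) →+* T.residueField t, ev = (T.Γevaluation t).hom := ⟨_, rfl⟩
  have hev : ∀ z, ev z = 0 ↔ t ∉ T.basicOpen z := fun z => by
    rw [hevdef]
    exact Scheme.evaluation_eq_zero_iff_notMem_basicOpen T (U := ⊤) t trivial z
  have hex : ev x ≠ 0 := (hx.map ev).ne_zero
  have hey : ev y ≠ 0 := (hy.map ev).ne_zero
  obtain ⟨ι, hι⟩ : ∃ ι : K →+* Γ(T, ⊤), ι = val (c ≫ str K) := ⟨_, rfl⟩
  -- the root of unity
  obtain ⟨b, hb, hbe⟩ : ∃ b : K, b ^ d = 1 ∧ ev (ι b) = ev y / ev x := by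
    have h1 : (ev y / ev x) ^ d = 1 := by
      rw [div_pow, ← map_pow, ← map_pow, hxy, div_self]
      rw [map_pow]; exact pow_ne_zero _ hey
    have hs : (X ^ d - 1 : K[X]).Splits := IsAlgClosed.splits _
    have hmonic : (X ^ d - 1 : K[X]).Monic := monic_X_pow_sub_C 1 hd0
    have h2 := hs.eq_prod_roots_of_monic hmonic
    have h3 : eval₂ (ev.comp ι) (ev y / ev x) (X ^ d - 1 : K[X]) = 0 := by
      simp [h1]
    rw [h2, ← coe_eval₂RingHom, map_multiset_prod, Multiset.prod_eq_zero_iff, Multiset.map_map,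
      Multiset.mem_map] at h3
    obtain ⟨b, hb, hb'⟩ := h3
    refine ⟨b, ?_, ?_⟩
    · have h4 := (mem_roots (hmonic.ne_zero)).1 hb
      rw [IsRoot.def, eval_sub, eval_pow, eval_X, eval_one, sub_eq_zero] at h4
      exact h4
    · rw [Function.comp_apply, coe_eval₂RingHom, eval₂_sub, eval₂_X, eval₂_C, sub_eq_zero] at hb'
      exact hb'.symm
  have hb0 : b ≠ 0 := by rintro rfl; rw [zero_pow hd0] at hb; exact zero_ne_one hb
  have ha : (Units.mk0 b hb0) ^ d = 1 := Units.ext (by rw [Units.val_pow_eq_pow_val]; exact hb)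
  obtain ⟨q, hqdef⟩ : ∃ q : Γ(T, ⊤), q = ∑ i ∈ Finset.range d, y ^ i * (ι b * x) ^ (d - 1 - i) :=
    ⟨_, rfl⟩
  have hq : q * (y - ι b * x) = 0 := by
    rw [hqdef, (Commute.all y (ι b * x)).geom_sum₂_mul, mul_pow, ← map_pow, hb, map_one, one_mul,
      hxy, sub_self]
  have hqe : ev q ≠ 0 := by
    have h4 : ev (ι b * x) = ev y := by rw [map_mul, hbe, div_mul_cancel₀ _ hex]
    have h5 : ev q = (d : T.residueField t) * ev y ^ (d - 1) := by
      rw [hqdef, map_sum, ← geom_sum₂_self (ev y) d]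
      refine Finset.sum_congr rfl fun i _ => ?_
      rw [map_mul, map_pow, map_pow, h4]
    rw [h5]
    refine mul_ne_zero ?_ (pow_ne_zero _ hey)
    have h6 := (map_ne_zero (ev.comp ι)).2 hd
    rwa [map_natCast] at h6
  have htU : t ∈ T.basicOpen q := by
    by_contra hcon
    exact hqe ((hev q).2 hcon)
  refine ⟨Units.mk0 b hb0, ha, T.basicOpen q, htU, ?_⟩
  apply hom_ext
  · rw [Category.assoc, Category.assoc, Category.assoc, scl_str, hstr]
  · have e1 : val ((T.basicOpen q).ι ≫ c ≫ scl (Units.mk0 b hb0)) (LaurentPolynomial.T 1) =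
        (T.basicOpen q).ι.appTop.hom (ι b * x) := by
      rw [val_comp, val_scl, ← hι, ← hxdef, Units.val_mk0]
    rw [e1, val_comp, ← hydef]
    have h7 : IsUnit ((T.basicOpen q).ι.appTop.hom q) := isUnit_basicOpen q
    have h8 : (T.basicOpen q).ι.appTop.hom (y - ι b * x) = 0 := by
      have h9 := congrArg (T.basicOpen q).ι.appTop.hom hq
      rw [map_mul, map_zero] at h9
      exact (h7.mul_right_eq_zero).1 h9
    rw [map_sub, sub_eq_zero] at h8
    exact h8

/-- Local transitivity of the deck transformations. -/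
theorem exists_sig [IsAlgClosed K] (d : ℕ) (h : Etale (pw K d)) (hd : (d : K) ≠ 0)
    (T : (Gm K).Etale) (c g : T ⟶ VE d h) (t : T.left) :
    ∃ (a : Kˣ) (ha : a ^ d = 1) (T' : (Gm K).Etale) (j : T' ⟶ T) (t' : T'.left), j.left t' = t ∧
      j ≫ g = j ≫ c ≫ (sig d h a ha : VE d h ⟶ VE d h) := by
  have wc : c.left ≫ pw K d = T.hom := MorphismProperty.Over.w c
  have wg : g.left ≫ pw K d = T.hom := MorphismProperty.Over.w g
  obtain ⟨a, ha, U, hU, he⟩ := exists_root d hd T.left c.left g.left (wc.trans wg.symm) t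
  exact ⟨a, ha, Etbase.EtGlue.opn T U, Etbase.EtGlue.opnι T U, ⟨t, hU⟩, rfl,
    MorphismProperty.Over.Hom.ext he⟩

end Groth.Agent.Sga4h.H917.KumDeck
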