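import Groth.Agent.Sga4h.H917.KumSch
import Groth.Agent.Sga4h.H917.ConstOn

/-!
# Base change of `𝔾_m` and of its power maps
-/

set_option autoImplicit false
universe u

open CategoryTheory CategoryTheory.Limits AlgebraicGeometry Polynomial Opposite
open scoped LaurentPolynomial

namespace Groth.Agent.Sga4h.H917.KumBC

open Groth.Agent.Sga4h.H917.KumCover Groth.Agent.Sga4h.H917.KumSch

variable (k K : Type u) [CommRing k] [CommRing K] [Algebra k K]

/-- `k[T;T⁻¹] → K[T;T⁻¹]`. -/
noncomputable def bcHom : k[T;T⁻¹] →+* K[T;T⁻¹] :=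
  LaurentPolynomial.eval₂ ((LaurentPolynomial.C : K →+* K[T;T⁻¹]).comp (algebraMap k K)) (uT K)

@[simp] theorem bcHom_C (a : k) :
    bcHom k K (LaurentPolynomial.C a) = LaurentPolynomial.C (algebraMap k K a) :=
  LaurentPolynomial.eval₂_C _ _ _

@[simp] theorem bcHom_T : bcHom k K (LaurentPolynomial.T 1) = LaurentPolynomial.T 1 := by
  have := LaurentPolynomial.eval₂_T_n ((LaurentPolynomial.C : K →+* K[T;T⁻¹]).comp (algebraMap k K))
    (uT K) 1
  rw [Nat.cast_one, pow_one] at this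
  exact this

/-- `𝔾_{m,K} ⟶ 𝔾_{m,k}`. -/
noncomputable def bc : Gm K ⟶ Gm k := Spec.map (CommRingCat.ofHom (bcHom k K))

theorem bc_str : bc k K ≫ str k = str K ≫ Spec.map (CommRingCat.ofHom (algebraMap k K)) := by
  rw [bc, str, str, ← Spec.map_comp, ← Spec.map_comp]
  exact congrArg Spec.map (CommRingCat.hom_ext (RingHom.ext fun a => bcHom_C k K a))

theorem pw_bc (m : ℕ) : pw K m ≫ bc k K = bc k K ≫ pw k m := by
  rw [bc, pw, pw, ← Spec.map_comp, ← Spec.map_comp]
  refine congrArg Spec.map (CommRingCat.hom_ext (ringHom_ext (fun a => ?_) ?_))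
  · change phi K m (bcHom k K (LaurentPolynomial.C a)) = bcHom k K (phi k m (LaurentPolynomial.C a))
    rw [bcHom_C, toEnd_C, toEnd_C, bcHom_C]
  · change phi K m (bcHom k K (LaurentPolynomial.T 1)) = bcHom k K (phi k m (LaurentPolynomial.T 1))
    rw [bcHom_T, phi_T', phi_T', map_pow, bcHom_T]

variable {k K} in
theorem val_bc {Z : Scheme.{u}} (f : Z ⟶ Gm K) :
    val (f ≫ bc k K) (LaurentPolynomial.T 1) = val f (LaurentPolynomial.T 1) := by
  rw [bc, val_spec, bcHom_T]

/-- The morphism to `𝔾_m` given by a morphism to the base and a unit. -/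
noncomputable def mk {R : Type u} [CommRing R] {Z : Scheme.{u}} (g : Z ⟶ Spec (CommRingCat.of R))
    (v : Γ(Z, ⊤)ˣ) : Z ⟶ Gm R := ofVal (LaurentPolynomial.eval₂ (val g) v)

theorem mk_str {R : Type u} [CommRing R] {Z : Scheme.{u}} (g : Z ⟶ Spec (CommRingCat.of R))
    (v : Γ(Z, ⊤)ˣ) : mk g v ≫ str R = g := by
  apply val_ext
  ext a
  rw [str, val_spec, mk, val_ofVal]
  exact LaurentPolynomial.eval₂_C _ _ _

theorem val_mk {R : Type u} [CommRing R] {Z : Scheme.{u}} (g : Z ⟶ Spec (CommRingCat.of R))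
    (v : Γ(Z, ⊤)ˣ) : val (mk g v) (LaurentPolynomial.T 1) = v := by
  rw [mk, val_ofVal]
  have := LaurentPolynomial.eval₂_T_n (val g) v 1
  rw [Nat.cast_one, pow_one] at this
  exact this

/-- The base change square. -/
theorem isPullback_bc :
    IsPullback (bc k K) (str K) (str k) (Spec.map (CommRingCat.ofHom (algebraMap k K))) := by
  refine ⟨⟨bc_str k K⟩, ⟨PullbackCone.IsLimit.mk _
    (fun s => mk s.snd ((LaurentPolynomial.isUnit_T 1).map (val s.fst)).unit) (fun s => ?_)
    (fun s => mk_str _ _) (fun s m h1 h2 => ?_)⟩⟩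
  · apply hom_ext
    · rw [Category.assoc, bc_str, ← Category.assoc, mk_str]
      exact s.condition.symm
    · rw [val_bc, val_mk]
      rfl
  · apply hom_ext
    · rw [mk_str]; exact h2
    · rw [val_mk, ← val_bc (k := k), h1]
      rfl

/-- The Kummer sheaf becomes constant on the power map after base change. -/
theorem isConstOn_pw {Λ : Type} [CommRing Λ] (m : ℕ) (hm : m ≠ 0)
    (L : EtLam.Sheaf Λ (Gm k))
    (hL : LangSh.IsConstOn (LangSh.cover k[T;T⁻¹] (Kum k m)) L) :
    LangSh.IsConstOn (pw K m) (EtLam.pullback (bc k K) L) := by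
  apply ConstOn.pullback_of_comp
  have h1 : pw K m ≫ bc k K = (bc k K ≫ kumIso m hm) ≫ LangSh.cover k[T;T⁻¹] (Kum k m) := by
    rw [Category.assoc, kumIso_cover, pw_bc]
  exact ConstOn.congr h1.symm L (ConstOn.comp _ _ L hL)

end Groth.Agent.Sga4h.H917.KumBC
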