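import Groth.Agent.Sga4h.H917.Desc
import Groth.Agent.Sga4h.H917.ConstOn

/-!
# A sheaf of rank one trivialised by a connected covering is constant or has no sections
-/

set_option autoImplicit false
universe u
open CategoryTheory CategoryTheory.Limits AlgebraicGeometry Opposite

namespace Groth.Agent.Sga4h.H917.RankOne

open Groth.Agent.Etcore.LocSec Groth.Agent.Etcore.LocEt Groth.Agent.Etcore.PullCoh
open Groth.Agent.Sga4h.H917.GSec Groth.Agent.Sga4h.H917.Desc

variable {X Y : Scheme.{u}} {Λ : Type}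

theorem cst_zero (X : Scheme.{u}) (M : Type) [AddCommGroup M] : cst X M 0 = 0 := by
  have h := cst_add X M 0 0
  rw [add_zero] at h
  exact left_eq_add.1 h

/-- Sections inject under surjective pull-back. -/
theorem eq_zero_of_gp [CommRing Λ] (f : Y ⟶ X) [Surjective f] (F : EtLam.Sheaf Λ X)
    (s : EtCoh.sect F.carrier (EtCoh.top X)) (hs : gp f _ s = 0) : s = 0 := by
  have := EtpbcB.SurjFaithful.pull_faithful f
  have h1 : (EtCore.pullConst f Λ).inv ≫ (EtCoh.pull f).map (ofGlob F s) = 0 := by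
    refine const_hom_ext _ _ fun m => ?_
    change app ((EtCore.pullConst f Λ).inv ≫ (EtCoh.pull f).map (ofGlob F s)) _ (cst Y Λ m) = 0
    rw [app_comp, gp_bijective_cst_inv, ← gp_map, app_ofGlob, gp_map, hs, map_zero]
  have h2 : (EtCoh.pull f).map (ofGlob F s) = 0 := by
    rw [← cancel_epi (EtCore.pullConst f Λ).inv, h1, comp_zero]
  have h3 : ofGlob F s = 0 := by
    apply (EtCoh.pull f).map_injective
    rw [h2, Functor.map_zero]
  have h4 := app_ofGlob F s (ULift.up 1)
  rw [h3] at h4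
  have h5 : app (F.act 1) (EtCoh.top X) s = s := app_act_one F _ s
  rw [← h5]
  exact h4.symm

/-- A rank one sheaf with a nonzero global section is constant. -/
theorem isConst_of_ne_zero [Field Λ] [ConnectedSpace Y] (f : Y ⟶ X) [Surjective f]
    (F : EtLam.Sheaf Λ X) (hF : LangSh.IsConstOn f F)
    (s : EtCoh.sect F.carrier (EtCoh.top X)) (hs : s ≠ 0) : IsConst F := by
  obtain ⟨ψ, hψ⟩ := hF
  obtain ⟨⟨r⟩, hr⟩ := (cst_bijective Y Λ).2 (app ψ.hom _ (gp f _ s))
  have hr0 : r ≠ 0 := by
    rintro rfl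
    apply hs
    apply eq_zero_of_gp f F
    apply (app_bijective ψ.hom _).1
    rw [← hr, map_zero]
    exact cst_zero Y Λ
  refine isConst_of_glob f F ψ hψ (app (F.act r⁻¹) _ s) ?_
  rw [gp_map, ← app_comp, hψ, app_comp, ← hr, app_constSMul, inv_mul_cancel₀ hr0]

end Groth.Agent.Sga4h.H917.RankOne
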