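import Groth.Agent.Sga4h.H918.Gen
import Groth.Agent.Sga5.H835.InvRes

/-!
# Global sections of a sheaf of modules with an equivariant generator

`eq_zero_of_hasGen`: if `M` has a free generator `s` over a connected étale covering `V` with
`g^* s = θ(g) s` and `θ(g) ≠ 1` for some `g`, then `M` has no nonzero global section (coefficients in a
ring without zero divisors).
-/

set_option autoImplicit false
universe u

open CategoryTheory CategoryTheory.Limits AlgebraicGeometry Opposite

namespace Groth.Agent.Sga4h.H917.GenSec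

open Groth.Agent.Etbase Groth.Agent.Etcore Groth.Agent.EtpbcA Groth.Agent.Etcore.LVan
open Groth.Agent.Sga4h.H918.Gen

variable {Λ : Type (u + 1)} [CommRing Λ] {X : Scheme.{u}}

/-- Every section over a connected scheme is a constant multiple of a free generator. -/
theorem exists_smul (L : EtModW.Mod Λ X) (V : X.Etale) [hc : ConnectedSpace V.left]
    (s : EtModW.sect Λ L V) (hs : IsGen L s) (t : EtModW.sect Λ L V) : ∃ c : Λ, t = c • s := by
  let S : Λ → Set V.left := fun c => {v | Van L (t - c • s) v}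
  have hopen : ∀ c, IsOpen (S c) := fun c => isOpen_van _
  have hcov : ∀ v, ∃ c, v ∈ S c := by
    intro v
    obtain ⟨c, hc⟩ := (hs v).2 V (𝟙 V) v rfl t
    refine ⟨c, ?_⟩
    rw [res_id, LinearMap.toSpanSingleton_apply] at hc
    exact hc
  have hdis : ∀ c d v, v ∈ S c → v ∈ S d → c = d := by
    intro c d v h1 h2
    have h3 : Van L ((d - c) • s) v := by
      have h4 := Van.sub h1 h2
      rw [sub_sub_sub_cancel_left, ← sub_smul] at h4
      exact h4
    have h5 := (hs v).1 (d - c) (by rw [LinearMap.toSpanSingleton_apply]; exact h3)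
    exact (sub_eq_zero.1 h5).symm
  obtain ⟨v₀⟩ : Nonempty V.left := hc.toNonempty
  obtain ⟨c, hc0⟩ := hcov v₀
  refine ⟨c, sect_ext L fun v => ?_⟩
  have hclopen : IsClopen (S c) := by
    refine ⟨?_, hopen c⟩
    rw [← isOpen_compl_iff]
    have : (S c)ᶜ = ⋃ d ∈ {d | d ≠ c}, S d := by
      ext w
      simp only [Set.mem_compl_iff, Set.mem_iUnion, Set.mem_ofPred_eq, exists_prop]
      constructor
      · intro hw
        obtain ⟨d, hd⟩ := hcov w
        exact ⟨d, by rintro rfl; exact hw hd, hd⟩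
      · rintro ⟨d, hd, hw⟩ hw'
        exact hd (hdis _ _ _ hw hw')
    rw [this]
    exact isOpen_biUnion fun d _ => hopen d
  have huniv : S c = Set.univ := hclopen.eq_univ ⟨v₀, hc0⟩
  have : v ∈ S c := by rw [huniv]; trivial
  exact this

/-- A section fixed by `g` vanishes if `θ(g) ≠ 1`. -/
theorem eq_zero_of_res [NoZeroDivisors Λ] (L : EtModW.Mod Λ X) (V : X.Etale)
    [ConnectedSpace V.left] (a : V ⟶ V) (r : Λ) (hr : r ≠ 1) (s : EtModW.sect Λ L V)
    (hs : IsGen L s) (hsr : res L a s = r • s) (t : EtModW.sect Λ L V) (ht : res L a t = t) :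
    t = 0 := by
  obtain ⟨c, rfl⟩ := exists_smul L V s hs t
  rw [map_smul, hsr, smul_smul] at ht
  obtain ⟨v⟩ : Nonempty V.left := ConnectedSpace.toNonempty
  have h1 : (c * r - c) • s = 0 := by rw [sub_smul, ht, sub_self]
  have h2 : c * r - c = 0 := by
    apply (hs v).1
    rw [LinearMap.toSpanSingleton_apply, h1]
    exact Van.zero v
  have h3 : c * (r - 1) = 0 := by rw [mul_sub, mul_one, h2]
  have h4 : c = 0 := (mul_eq_zero.1 h3).resolve_right (sub_ne_zero.2 hr)
  rw [h4, zero_smul]

/-- **No global sections.** -/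
theorem eq_zero_of_hasGen [NoZeroDivisors Λ] (L : EtModW.Mod Λ X) (V : X.Etale)
    [ConnectedSpace V.left] (hV : ∀ x : X, ∃ v : V.left, V.hom v = x) {G : Type*}
    (act : G → (V ⟶ V)) (θ : G → Λ) (h : HasGen L V act θ) (g : G) (hg : θ g ≠ 1)
    (s : EtModW.sect Λ L (EtCoh.top X)) : s = 0 := by
  obtain ⟨s₀, hs₀, hs₁⟩ := h
  let i : V ⟶ EtCoh.top X := Groth.Agent.Sga5.H835.InvRes.toTop V
  have hi : act g ≫ i = i :=
    MorphismProperty.Over.Hom.ext (MorphismProperty.Over.w (act g))
  have h1 : res L i s = 0 :=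
    eq_zero_of_res L V (act g) (θ g) hg s₀ hs₀ (hs₁ g) _ (by rw [← res_comp, hi])
  refine sect_ext' L fun x => ?_
  obtain ⟨v, hv⟩ := hV x
  exact ⟨V, i, v, hv, by rw [h1, map_zero]⟩

end Groth.Agent.Sga4h.H917.GenSec
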