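import Groth.Agent.Sga4h.H299.LamMod

/-!
# The sheaf with `Λ`-action attached to a sheaf of modules over `ULift Λ`

`ofMod M` for `M : EtModW.Mod (ULift Λ) X`, with `(ofMod M).carrier = ab M`;
`isConstOn_ofMod`: if `π^* M` is the constant sheaf then `LangSh.IsConstOn π (ofMod M)`.
-/

set_option autoImplicit false
universe u

open CategoryTheory CategoryTheory.Limits AlgebraicGeometry Opposite

namespace Groth.Agent.Sga4h.H917.ModLam

open Groth.Agent.Sga4h.ModRestr Groth.Agent.Sga4h.EtaleRes Groth.Agent.Etrest.ModAb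
  Groth.Agent.Sga4h.H299.Scal Groth.Agent.Sga4h.H299.LamMod

attribute [local instance] jCont

variable {Λ : Type} [CommRing Λ] {X Y : Scheme.{u}}

/-- The sheaf with `Λ`-action attached to a sheaf of modules. -/
noncomputable def ofMod (M : EtModW.Mod (UL.{u} Λ) X) : EtLam.Sheaf Λ X where
  carrier := (ab (UL.{u} Λ) X).obj M
  act :=
    { toFun := fun r => abScal (ULift.up r) M
      map_one' := by
        apply Sheaf.hom_ext
        ext U x
        exact one_smul (UL.{u} Λ) (show M.obj.obj U from x)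
      map_mul' := fun r s => by
        apply Sheaf.hom_ext
        ext U x
        exact mul_smul (ULift.up.{u + 1} r) (ULift.up s) (show M.obj.obj U from x)
      map_zero' := by
        apply Sheaf.hom_ext
        ext U x
        exact zero_smul (UL.{u} Λ) (show M.obj.obj U from x)
      map_add' := fun r s => by
        apply Sheaf.hom_ext
        ext U x
        exact add_smul (ULift.up.{u + 1} r) (ULift.up s) (show M.obj.obj U from x) }

theorem ofMod_carrier (M : EtModW.Mod (UL.{u} Λ) X) :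
    (ofMod M).carrier = (ab (UL.{u} Λ) X).obj M := rfl

theorem ofMod_act (M : EtModW.Mod (UL.{u} Λ) X) (r : Λ) :
    (ofMod M).act r = abScal (ULift.up r) M := rfl

/-- `toMod (ofMod M) ≅ M`. -/
noncomputable def toModOfMod (M : EtModW.Mod (UL.{u} Λ) X) : M ≅ toMod (ofMod M) :=
  isoToMod (Iso.refl _) fun _ => (Category.comp_id _).trans (Category.id_comp _).symm

theorem comm_abs {𝒞 : Type*} [Category 𝒞] {A B C D : 𝒞} (p : B ≅ A) (e : B ≅ C) (c : C ≅ D)
    {a : A ⟶ A} {b : B ⟶ B} {g : C ⟶ C} {d : D ⟶ D} (h1 : b ≫ p.hom = p.hom ≫ a)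
    (h2 : b ≫ e.hom = e.hom ≫ g) (h3 : g ≫ c.hom = c.hom ≫ d) :
    a ≫ (p.symm ≪≫ e ≪≫ c).hom = (p.symm ≪≫ e ≪≫ c).hom ≫ d := by
  rw [← cancel_epi p.hom, ← Category.assoc, ← h1]
  simp only [Iso.trans_hom, Iso.symm_hom, Category.assoc, Iso.hom_inv_id_assoc]
  rw [← h3, ← Category.assoc, h2, Category.assoc]

/-- A sheaf of modules with constant inverse image. -/
theorem isConstOn_ofMod (π : Y ⟶ X) (M : EtModW.Mod (UL.{u} Λ) X)
    (h : Nonempty ((EtModW.pull (UL.{u} Λ) π).obj M ≅ EtModW.constMod (UL.{u} Λ) Y (UL.{u} Λ))) :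
    LangSh.IsConstOn π (ofMod M) := by
  obtain ⟨e⟩ := h
  refine ⟨((pullIso (UL.{u} Λ) π).app M).symm ≪≫ (ab (UL.{u} Λ) Y).mapIso e ≪≫
    (constIso (UL.{u} Λ) Y).app (ModuleCat.of (UL.{u} Λ) (UL.{u} Λ)), fun r => ?_⟩
  have h2 : abScal (ULift.up.{u + 1} r) ((EtModW.pull (UL.{u} Λ) π).obj M) ≫
      ((ab (UL.{u} Λ) Y).mapIso e).hom = ((ab (UL.{u} Λ) Y).mapIso e).hom ≫
        abScal (ULift.up.{u + 1} r) (EtModW.constMod (UL.{u} Λ) Y (UL.{u} Λ)) := by
    rw [Functor.mapIso_hom, ← Functor.map_comp, ← Functor.map_comp, scal_naturality]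
  exact comm_abs ((pullIso (UL.{u} Λ) π).app M) ((ab (UL.{u} Λ) Y).mapIso e)
    ((constIso (UL.{u} Λ) Y).app (ModuleCat.of (UL.{u} Λ) (UL.{u} Λ)))
    (pullIso_scal π (ULift.up.{u + 1} r) M) h2 (constIso_scal Y (ULift.up.{u + 1} r : UL.{u} Λ))

end Groth.Agent.Sga4h.H917.ModLam
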