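import Groth.Agent.Sga4h.H917.GSec
import Groth.Agent.Etbase.EtGlue
import Groth.Agent.Etbase.EtSite
import Groth.Agent.EtpbcB.SurjFaithful
import Groth.Prelude.Def_LangSh

/-!
# Descent of sections along a Galois covering and constancy of rank one sheaves

* `exists_descend`: a section over an étale covering `V` which is invariant (locally) comes from `X`.
* `isConst_of_cover`: a `Λ`-sheaf which is constant of rank one on `V` is constant if the deck
  transformations have `ℓ`-power order, `ℓ = char Λ`.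
-/

set_option autoImplicit false
universe u
open CategoryTheory CategoryTheory.Limits AlgebraicGeometry Opposite

namespace Groth.Agent.Sga4h.H917.Desc

open Groth.Agent.Etcore.LocSec Groth.Agent.Etcore.LocEt Groth.Agent.Etcore.PullCoh
open Groth.Agent.Sga4h.H917.GSec

variable {X : Scheme.{u}}

/-- Descent of a section along an étale covering. -/
theorem exists_descend (F : EtCoh.Ab X) (V : X.Etale) (hV : Function.Surjective V.hom)
    (s : EtCoh.sect F V)
    (h : ∀ (T : X.Etale) (c g : T ⟶ V) (t : T.left), ∃ (T' : X.Etale) (j : T' ⟶ T) (t' : T'.left),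
      j.left t' = t ∧ res F (j ≫ c) s = res F (j ≫ g) s) :
    ∃ s₀ : EtCoh.sect F (EtCoh.top X), res F (Etcore.LocMap.toTop V) s₀ = s := by
  obtain ⟨t, ht, -⟩ := Etbase.EtGlue.existsUnique_glue F (W := EtCoh.top X) (ι := Unit)
    (U := fun _ => V) (fun _ => Etcore.LocMap.toTop V) (by
      rw [Set.iUnion_const]
      refine Set.range_eq_univ.2 fun x => ?_
      obtain ⟨v, hv⟩ := hV x
      refine ⟨v, ?_⟩
      have w : (Etcore.LocMap.toTop V).left ≫ 𝟙 X = V.hom := MorphismProperty.Over.w _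
      have w2 : (Etcore.LocMap.toTop V).left = V.hom := (Category.comp_id _).symm.trans w
      exact (congrArg (fun k : V.left ⟶ X => k v) w2).trans hv) (fun _ => s) (fun _ _ Z gi gj _ => by
      refine Etbase.EtSite.sect_ext F Z _ _ fun z => ?_
      obtain ⟨T', j, t', ht', he⟩ := h Z gi gj z
      refine ⟨T', j, t', ht', ?_⟩
      have h1 := res_res F j gi s
      have h2 := res_res F j gj s
      exact h1.trans (he.trans h2.symm))
  exact ⟨t, ht ()⟩

/-- `f⁻¹` reflects isomorphisms for `f` surjective. -/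
theorem isIso_of_pull {Y : Scheme.{u}} (f : Y ⟶ X) [Surjective f] {F G : EtCoh.Ab X} (a : F ⟶ G)
    [IsIso ((EtCoh.pull f).map a)] : IsIso a := by
  have := EtpbcB.SurjFaithful.pull_faithful f
  have h1 : Mono a := (EtCoh.pull f).mono_of_mono_map inferInstance
  have h2 : Epi a := (EtCoh.pull f).epi_of_epi_map inferInstance
  exact isIso_of_mono_of_epi a

section Lam

variable {Λ : Type} [CommRing Λ]

theorem app_constSMul (X : Scheme.{u}) (r s : Λ) :
    app (FinFr.constSMul X r) (EtCoh.top X) (cst X Λ (ULift.up s)) = cst X Λ (ULift.up (r * s)) := by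
  have h := (EtCore.constAdj X).unit.naturality
    (AddCommGrpCat.ofHom (DistribSMul.toAddMonoidHom (ULift.{u + 1} Λ) r))
  exact (ConcreteCategory.congr_hom h (ULift.up s)).symm

theorem app_add {F G : EtCoh.Ab X} (a b : F ⟶ G) (V : X.Etale) (s : EtCoh.sect F V) :
    app (a + b) V s = app a V s + app b V s := rfl

theorem app_act_mul (F : EtLam.Sheaf Λ X) (r s : Λ) (V : X.Etale) (x : EtCoh.sect F.carrier V) :
    app (F.act (r * s)) V x = app (F.act r) V (app (F.act s) V x) := by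
  rw [map_mul, End.mul_def, app_comp]

theorem app_act_one (F : EtLam.Sheaf Λ X) (V : X.Etale) (x : EtCoh.sect F.carrier V) :
    app (F.act 1) V x = x := by
  rw [map_one, End.one_def, app_id]

theorem app_act_add (F : EtLam.Sheaf Λ X) (r s : Λ) (V : X.Etale) (x : EtCoh.sect F.carrier V) :
    app (F.act (r + s)) V x = app (F.act r) V x + app (F.act s) V x := by
  rw [map_add]
  exact app_add _ _ V x

theorem app_act_zero (F : EtLam.Sheaf Λ X) (V : X.Etale) (x : EtCoh.sect F.carrier V) :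
    app (F.act 0) V x = 0 := by
  have h := app_act_add F 0 0 V x
  rw [add_zero] at h
  exact left_eq_add.1 h

/-- The morphism `Λ ⟶ F` given by a global section. -/
noncomputable def ofGlob (F : EtLam.Sheaf Λ X) (s : EtCoh.sect F.carrier (EtCoh.top X)) :
    EtCoh.const X Λ ⟶ F.carrier :=
  ((EtCore.constAdj X).homEquiv _ _).symm (AddCommGrpCat.ofHom
    { toFun := fun r => app (F.act r.down) (EtCoh.top X) s
      map_zero' := app_act_zero F _ s
      map_add' := fun a b => app_act_add F a.down b.down _ s })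

theorem app_ofGlob (F : EtLam.Sheaf Λ X) (s : EtCoh.sect F.carrier (EtCoh.top X))
    (m : ULift.{u + 1} Λ) :
    app (ofGlob F s) _ (cst X Λ m) = app (F.act m.down) (EtCoh.top X) s := by
  have h := (EtCore.constAdj X).homEquiv_unit (X := AddCommGrpCat.of (ULift.{u + 1} Λ))
    (Y := F.carrier) (f := ofGlob F s)
  rw [ofGlob, Equiv.apply_symm_apply] at h
  exact (ConcreteCategory.congr_hom h m).symm

theorem ofGlob_act (F : EtLam.Sheaf Λ X) (s : EtCoh.sect F.carrier (EtCoh.top X)) (r : Λ) :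
    ofGlob F s ≫ F.act r = FinFr.constSMul X r ≫ ofGlob F s := by
  refine const_hom_ext _ _ fun m => ?_
  change app (ofGlob F s ≫ F.act r) _ (cst X Λ m) = app (FinFr.constSMul X r ≫ ofGlob F s) _ (cst X Λ m)
  obtain ⟨m⟩ := m
  rw [app_comp, app_comp, app_constSMul, app_ofGlob, app_ofGlob, app_act_mul]

theorem gp_bijective_cst_inv {Y : Scheme.{u}} (f : Y ⟶ X) (m : ULift.{u + 1} Λ) :
    app (EtCore.pullConst f Λ).inv _ (cst Y Λ m) = gp f _ (cst X Λ m) := by
  rw [← gp_cst f Λ m, ← app_comp, Iso.hom_inv_id, app_id]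

/-- If a global section becomes the generator `1` on a covering, the sheaf is constant. -/
theorem isIso_ofGlob {Y : Scheme.{u}} (f : Y ⟶ X) [Surjective f] (F : EtLam.Sheaf Λ X)
    (ψ : (EtCoh.pull f).obj F.carrier ≅ EtCoh.const Y Λ)
    (hψ : ∀ r : Λ, (EtCoh.pull f).map (F.act r) ≫ ψ.hom = ψ.hom ≫ FinFr.constSMul Y r)
    (s : EtCoh.sect F.carrier (EtCoh.top X))
    (hs : app ψ.hom _ (gp f _ s) = cst Y Λ (ULift.up 1)) : IsIso (ofGlob F s) := by
  have h : (EtCore.pullConst f Λ).inv ≫ (EtCoh.pull f).map (ofGlob F s) ≫ ψ.hom = 𝟙 _ := by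
    refine const_hom_ext _ _ fun m => ?_
    change app ((EtCore.pullConst f Λ).inv ≫ (EtCoh.pull f).map (ofGlob F s) ≫ ψ.hom) _
      (cst Y Λ m) = app (𝟙 _) _ (cst Y Λ m)
    obtain ⟨m⟩ := m
    rw [app_comp, app_comp, gp_bijective_cst_inv, ← gp_map, app_ofGlob, gp_map, ← app_comp, hψ,
      app_comp, hs, app_constSMul, mul_one, app_id]
  have h2 : (EtCoh.pull f).map (ofGlob F s) = (EtCore.pullConst f Λ).hom ≫ ψ.inv := by
    rw [← cancel_epi (EtCore.pullConst f Λ).inv, ← cancel_mono ψ.hom, Category.assoc, h]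
    simp
  have : IsIso ((EtCoh.pull f).map (ofGlob F s)) := by
    rw [h2]; infer_instance
  exact isIso_of_pull f (ofGlob F s)

/-- The property "constant of rank one, compatibly with the actions", for a `Λ`-sheaf. -/
def IsConst (F : EtLam.Sheaf Λ X) : Prop :=
  ∃ e : F.carrier ≅ EtCoh.const X Λ, ∀ r : Λ, F.act r ≫ e.hom = e.hom ≫ FinFr.constSMul X r

theorem isConst_of_glob {Y : Scheme.{u}} (f : Y ⟶ X) [Surjective f] (F : EtLam.Sheaf Λ X)
    (ψ : (EtCoh.pull f).obj F.carrier ≅ EtCoh.const Y Λ)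
    (hψ : ∀ r : Λ, (EtCoh.pull f).map (F.act r) ≫ ψ.hom = ψ.hom ≫ FinFr.constSMul Y r)
    (s : EtCoh.sect F.carrier (EtCoh.top X))
    (hs : app ψ.hom _ (gp f _ s) = cst Y Λ (ULift.up 1)) : IsConst F := by
  have := isIso_ofGlob f F ψ hψ s hs
  refine ⟨(asIso (ofGlob F s)).symm, fun r => ?_⟩
  rw [Iso.symm_hom, asIso_inv, IsIso.comp_inv_eq, Category.assoc, ← ofGlob_act,
    IsIso.inv_hom_id_assoc]

end Lam

section Field

variable {Λ : Type} [Field Λ]

theorem pow_eq_one_of_char {ℓ : ℕ} [Fact ℓ.Prime] [CharP Λ ℓ] (a : Λ) (n : ℕ) (h : a ^ ℓ ^ n = 1) :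
    a = 1 := by
  have h1 : (a - 1) ^ ℓ ^ n = 0 := by
    rw [sub_pow_char_pow, h, one_pow, sub_self]
  exact sub_eq_zero.1 (pow_eq_zero_iff (pow_ne_zero n (Fact.out : ℓ.Prime).ne_zero) |>.1 h1)

theorem res_pow (F : EtCoh.Ab X) {V : X.Etale} (σ : End V) (n : ℕ) (s : EtCoh.sect F V)
    (A : EtCoh.sect F V → EtCoh.sect F V) (hA : ∀ s, A s = res F σ s) :
    res F (σ ^ n : End V) s = A^[n] s := by
  induction n generalizing s with
  | zero => exact Etcore.LocSec.res_id F s
  | succ n ih =>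
    have h1 : (σ ^ (n + 1) : End V) = (σ : V ⟶ V) ≫ (σ ^ n : End V) := by
      rw [pow_succ, End.mul_def]
    rw [h1, ← res_res, ih, ← hA, Function.iterate_succ_apply']

/-- **Constancy from an `ℓ`-covering.** -/
theorem isConst_of_cover {ℓ : ℕ} [Fact ℓ.Prime] [CharP Λ ℓ] (V : X.Etale) [ConnectedSpace V.left]
    (hV : Function.Surjective V.hom) (F : EtLam.Sheaf Λ X)
    (ψ : (EtCoh.pull V.hom).obj F.carrier ≅ EtCoh.const V.left Λ)
    (hψ : ∀ r : Λ, (EtCoh.pull V.hom).map (F.act r) ≫ ψ.hom = ψ.hom ≫ FinFr.constSMul V.left r)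
    (S : Set (End V)) (hS : ∀ σ ∈ S, ∃ a : ℕ, σ ^ ℓ ^ a = 1)
    (htr : ∀ (T : X.Etale) (c g : T ⟶ V) (t : T.left), ∃ σ ∈ S, ∃ (T' : X.Etale) (j : T' ⟶ T)
      (t' : T'.left), j.left t' = t ∧ j ≫ g = j ≫ c ≫ (σ : V ⟶ V)) : IsConst F := by
  obtain ⟨u, hu⟩ := (lo_bijective V F.carrier).2 (app ψ.inv _ (cst V.left Λ (ULift.up 1)))
  have hu' : app ψ.hom _ (lo V F.carrier u) = cst V.left Λ (ULift.up 1) := by
    rw [hu, ← app_comp, Iso.inv_hom_id, app_id]
  have hact : ∀ r : Λ, app ψ.hom _ (lo V F.carrier (app (F.act r) V u)) =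
      cst V.left Λ (ULift.up r) := by
    intro r
    rw [lo_map, ← app_comp, hψ, app_comp, hu']
    exact (app_constSMul V.left r 1).trans (by rw [mul_one])
  have hrep : ∀ n : EtCoh.sect F.carrier V, ∃ r : Λ, n = app (F.act r) V u := by
    intro n
    obtain ⟨⟨r⟩, hr⟩ := (cst_bijective V.left Λ).2 (app ψ.hom _ (lo V F.carrier n))
    refine ⟨r, ?_⟩
    apply (lo_bijective V F.carrier).1
    apply (app_bijective ψ.hom _).1
    rw [hact, hr]
  have hinj : ∀ r s : Λ, app (F.act r) V u = app (F.act s) V u → r = s := by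
    intro r s h
    have h1 := hact r
    rw [h, hact s] at h1
    exact congrArg ULift.down ((cst_bijective V.left Λ).1 h1).symm
  have hinv : ∀ σ ∈ S, res F.carrier (σ : V ⟶ V) u = u := by
    intro σ hσ
    obtain ⟨n, hn⟩ := hS σ hσ
    obtain ⟨a, ha⟩ := hrep (res F.carrier (σ : V ⟶ V) u)
    have h1 : ∀ k : ℕ, (fun s => res F.carrier (σ : V ⟶ V) s)^[k] u = app (F.act (a ^ k)) V u := by
      intro k
      induction k with
      | zero => rw [pow_zero, app_act_one]; rfl
      | succ k ih =>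
        rw [Function.iterate_succ_apply', ih, res_app, ha, ← app_act_mul, ← pow_succ]
    have h2 := res_pow F.carrier σ (ℓ ^ n) u (fun s => res F.carrier (σ : V ⟶ V) s) (fun _ => rfl)
    rw [h1, hn] at h2
    have h3 : app (F.act 1) V u = app (F.act (a ^ ℓ ^ n)) V u := by
      rw [← h2, app_act_one]
      exact (Etcore.LocSec.res_id F.carrier u).symm
    have h4 := pow_eq_one_of_char a n (hinj _ _ h3).symm
    rw [ha, h4, app_act_one]
  obtain ⟨s₀, hs₀⟩ := exists_descend F.carrier V hV u (by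
    intro T c g t
    obtain ⟨σ, hσ, T', j, t', ht', he⟩ := htr T c g t
    refine ⟨T', j, t', ht', ?_⟩
    rw [he, ← res_res F.carrier j (c ≫ (σ : V ⟶ V)), ← res_res F.carrier c (σ : V ⟶ V), hinv σ hσ,
      ← res_res])
  have : Surjective V.hom := ⟨hV⟩
  refine isConst_of_glob (Y := V.left) V.hom F ψ hψ s₀ ?_
  have h5 : gp V.hom F.carrier s₀ = lo V F.carrier u := by rw [gp_lo, hs₀]
  exact (congrArg (app ψ.hom (EtCoh.top V.left)) h5).trans hu'

end Field

end Groth.Agent.Sga4h.H917.Desc
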