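import Groth.Agent.Sga4h.H917.LocTr

/-!
# Eigenvalues on generators of trivialised sheaves
-/

set_option autoImplicit false
universe u
open CategoryTheory CategoryTheory.Limits AlgebraicGeometry Opposite

namespace Groth.Agent.Sga4h.H917.EigAbs

open Groth.Agent.Etcore.LocSec Groth.Agent.Etcore.LocEt Groth.Agent.Etcore.PullCoh
open Groth.Agent.Sga4h.H917.GSec Groth.Agent.Sga4h.H917.Desc Groth.Agent.Sga4h.H917.LocTr
open scoped Groth.Agent.Etcore.EtInst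

theorem gpV_congr {X Y Z : Scheme.{u}} {f f' : X ⟶ Y} (h : f = f') (t : Y ⟶ Z) {f₀ : X ⟶ Z}
    (w : f ≫ t = f₀) (w' : f' ≫ t = f₀) (G : EtCoh.Ab Z)
    (s : EtCoh.sect ((EtCoh.pull t).obj G) (EtCoh.top Y)) : gpV f t w G s = gpV f' t w' G s := by
  congr 2

variable {Λ : Type} [Field Λ] {X Z : Scheme.{u}} {t : Z ⟶ X} {G : EtCoh.Ab X} (B : Λ →+* End G)
  (e : (EtCoh.pull t).obj G ≅ EtCoh.const Z Λ)

/-- `g` acts on the generator by `c`. -/
def IsEig (g : Z ⟶ Z) (wg : g ≫ t = t) (c : Λ) : Prop :=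
  gpV g t wg G (one e) = app ((EtCoh.pull t).map (B c)) _ (one e)

variable {B e}

theorem isEig_comp {g h : Z ⟶ Z} {wg : g ≫ t = t} {wh : h ≫ t = t} (wgh : (g ≫ h) ≫ t = t)
    {c d : Λ} (hg : IsEig B e g wg c) (hh : IsEig B e h wh d) : IsEig B e (g ≫ h) wgh (c * d) := by
  rw [IsEig] at hg hh ⊢
  rw [← gpV_comp g h t rfl wh wg wgh G (one e), hh, gpV_map, hg, ← app_comp, ← Functor.map_comp,
    mul_comm c d, map_mul, End.mul_def]

theorem isEig_congr {g g' : Z ⟶ Z} (h : g = g') {wg : g ≫ t = t} (wg' : g' ≫ t = t) {c c' : Λ}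
    (hc : c = c') (hg : IsEig B e g wg c) : IsEig B e g' wg' c' := by
  subst h hc
  exact hg

theorem exists_isEig [ConnectedSpace Z]
    (he : ∀ r : Λ, (EtCoh.pull t).map (B r) ≫ e.hom = e.hom ≫ FinFr.constSMul Z r)
    (g : Z ⟶ Z) (wg : g ≫ t = t) : ∃ c : Λ, IsEig B e g wg c :=
  exists_act (A := fun r => (EtCoh.pull t).map (B r)) he _

/-- The eigenvalue at a point. -/
theorem isEig_point {X' Z' : Scheme.{u}} {p : X' ⟶ X} {s : Z' ⟶ X'} {y : Z' ⟶ Z}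
    (w : y ≫ t = s ≫ p) {g : Z ⟶ Z} {wg : g ≫ t = t} {g' : Z' ⟶ Z'} (wg' : g' ≫ s = s)
    (hgg : g' ≫ y = y ≫ g) {c : Λ} (hc : IsEig B e g wg c) :
    gpV g' s wg' ((EtCoh.pull p).obj G) (one (ce p s rfl (pe t e y w))) =
      app ((EtCoh.pull s).map ((EtCoh.pull p).map (B c))) _ (one (ce p s rfl (pe t e y w))) := by
  apply (app_bijective (thh s p rfl G) _).1
  have w3 : g' ≫ (s ≫ p) = s ≫ p := by rw [← Category.assoc, wg']
  have hwa : (g' ≫ y) ≫ t = s ≫ p := by rw [Category.assoc, w, w3]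
  have hwb : (y ≫ g) ≫ t = s ≫ p := by rw [Category.assoc, wg, w]
  rw [IsEig] at hc
  rw [gpV_conv g' s p wg' rfl w3 rfl, app_thh_one, ← gpV_one, gpV_comp g' y t rfl w w3 hwa,
    gpV_congr hgg t hwa hwb, ← gpV_comp y g t rfl wg w hwb, hc, gpV_map, gpV_one,
    ← app_comp, thh_nat s p rfl (B c), app_comp, app_thh_one]

end Groth.Agent.Sga4h.H917.EigAbs
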