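import Groth.Agent.Sga4h.H917.GalH0
import Groth.Agent.Sga4h.H917.EigAbs

/-!
# Local traces of a sheaf of rank one which is constant over `K`

`a : X₀ ⟶ Spec k`, `k` finite, `K/k` algebraic, `L` a sheaf of `Λ`-modules on `X₀` whose pull-back to
`X₀ ×_k K` (connected) is isomorphic to `Λ`: there is `c : Λ` such that the local trace of `L` at every
point with values in a finite extension `E ⊂ K` is `c ^ [E : k]` (`exists_locTrace_eq`).
-/

set_option autoImplicit false
universe u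
open CategoryTheory CategoryTheory.Limits AlgebraicGeometry Opposite

namespace Groth.Agent.Sga4h.H917.Eig

open Groth.Agent.Etcore.LocSec Groth.Agent.Etcore.LocEt Groth.Agent.Etcore.PullCoh
open Groth.Agent.Sga4h.H917.GSec Groth.Agent.Sga4h.H917.Desc Groth.Agent.Sga4h.H917.LocTr
open Groth.Agent.Sga4h.H917.TrH0 Groth.Agent.Sga4h.H917.GalH0 Groth.Agent.Sga4h.H917.EigAbs

variable {k : Type u} [Field k] {K : Type u} [Field K] [Algebra k K]
variable {X₀ : Scheme.{u}} (a : X₀ ⟶ Spec (CommRingCat.of k))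

theorem galAct_mul (σ τ : K ≃ₐ[k] K) :
    FinFr.galAct a σ ≫ FinFr.galAct a τ = FinFr.galAct a (σ * τ) := by
  apply pullback.hom_ext
  · rw [Category.assoc, FinFr.galAct_fst, FinFr.galAct_fst, FinFr.galAct_fst]
  · rw [Category.assoc, FinFr.galAct_snd, ← Category.assoc, FinFr.galAct_snd, FinFr.galAct_snd,
      Category.assoc, ← Spec.map_comp]
    rfl

theorem isEig_pow {Λ : Type} [Field Λ] {G : EtCoh.Ab X₀} {B : Λ →+* End G}
    {e : (EtCoh.pull (FinFr.extπ K a)).obj G ≅ EtCoh.const (FinFr.ext K a) Λ} (σ : K ≃ₐ[k] K) (c : Λ)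
    (hc : IsEig B e (FinFr.galAct a σ) (FinFr.galAct_fst a σ) c) (n : ℕ) :
    IsEig B e (FinFr.galAct a (σ ^ (n + 1))) (FinFr.galAct_fst a (σ ^ (n + 1))) (c ^ (n + 1)) := by
  induction n with
  | zero => exact isEig_congr (by rw [zero_add, pow_one]) _ (by rw [zero_add, pow_one]) hc
  | succ n ih =>
    exact isEig_congr ((galAct_mul a (σ ^ (n + 1)) σ).trans (by rw [← pow_succ])) _
      (by rw [← pow_succ])
      (isEig_comp (by rw [Category.assoc, FinFr.galAct_fst, FinFr.galAct_fst]) ih hc)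

section Point

variable (E : IntermediateField k K) (x : Spec (CommRingCat.of E) ⟶ X₀)
  (hx : x ≫ a = Spec.map (CommRingCat.ofHom (algebraMap k E)))

/-- The geometric point. -/
noncomputable def xK : FinFr.ext K (𝟙 (Spec (CommRingCat.of E))) ⟶ FinFr.ext K a :=
  pullback.lift (FinFr.extπ K (𝟙 _) ≫ x) (FinFr.extStr K (𝟙 _)) (by
    have h1 : FinFr.extπ K (𝟙 (Spec (CommRingCat.of E))) =
        FinFr.extStr K (𝟙 (Spec (CommRingCat.of E))) ≫ FinFr.specι E K := by
      have := pullback.condition (f := 𝟙 (Spec (CommRingCat.of E))) (g := FinFr.specι E K)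
      rwa [Category.comp_id] at this
    rw [Category.assoc, hx, h1, Category.assoc, FinFr.specι, ← Spec.map_comp]
    rfl)

theorem xK_fst : xK a E x hx ≫ FinFr.extπ K a = FinFr.extπ K (𝟙 _) ≫ x := pullback.lift_fst _ _ _

theorem xK_snd : xK a E x hx ≫ FinFr.extStr K a = FinFr.extStr K (𝟙 _) := pullback.lift_snd _ _ _

theorem galAct_xK (σ : K ≃ₐ[E] K) (τ : K ≃ₐ[k] K) (hτ : ∀ y, τ y = σ y) :
    FinFr.galAct (𝟙 (Spec (CommRingCat.of E))) σ ≫ xK a E x hx =
      xK a E x hx ≫ FinFr.galAct a τ := by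
  apply pullback.hom_ext
  · rw [Category.assoc, Category.assoc, FinFr.galAct_fst, xK_fst, ← Category.assoc,
      FinFr.galAct_fst]
  · rw [Category.assoc, Category.assoc, FinFr.galAct_snd, xK_snd, FinFr.galAct_snd,
      ← Category.assoc, xK_snd]
    have h : (σ : K →+* K) = (τ : K →+* K) := RingHom.ext fun y => (hτ y).symm
    rw [h]

variable {Λ : Type} [Field Λ] (L : EtLam.Sheaf Λ X₀)
  (e : (EtCoh.pull (FinFr.extπ K a)).obj L.carrier ≅ EtCoh.const (FinFr.ext K a) Λ)
  (he : ∀ r : Λ, (EtCoh.pull (FinFr.extπ K a)).map (L.act r) ≫ e.hom =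
    e.hom ≫ FinFr.constSMul (FinFr.ext K a) r)

instance connected_ext_one : ConnectedSpace (FinFr.ext K (𝟙 (Spec (CommRingCat.of E))) : Scheme.{u}) := by
  have h1 : IsIso (pullback.snd (𝟙 (Spec (CommRingCat.of E))) (FinFr.specι E K)) := inferInstance
  exact (Scheme.homeoOfIso (asIso (pullback.snd (𝟙 (Spec (CommRingCat.of E)))
    (FinFr.specι E K)))).symm.surjective.connectedSpace
    (Scheme.homeoOfIso (asIso (pullback.snd (𝟙 (Spec (CommRingCat.of E)))
    (FinFr.specι E K)))).symm.continuous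

include hx he in
/-- The trace of the Galois action on the fibre at a point is the eigenvalue on global sections. -/
theorem trace_eq_eig [Fact FinFr.PullExact.{u}] (σ : K ≃ₐ[E] K) (τ : K ≃ₐ[k] K)
    (hτ : ∀ y, τ y = σ y) (c : Λ)
    (hc : IsEig L.act e (FinFr.galAct a τ) (FinFr.galAct_fst a τ) c) :
    LinearMap.trace Λ _ (FinFr.galLin (𝟙 (Spec (CommRingCat.of E))) σ (EtLam.pullback x L) 0) = c := by
  have hpe := pe_lin (FinFr.extπ K a) e (B := L.act) he (xK a E x hx) (xK_fst a E x hx)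
  refine TrH0.trace_eq (ce x (FinFr.extπ K (𝟙 (Spec (CommRingCat.of E)))) rfl
    (pe (FinFr.extπ K a) e (xK a E x hx) (xK_fst a E x hx)))
    (ce_lin (B := L.act) x (FinFr.extπ K (𝟙 (Spec (CommRingCat.of E)))) rfl _ hpe) _ c ?_
  intro y hy
  rw [h0_galLin, hy]
  exact isEig_point (xK_fst a E x hx) (FinFr.galAct_fst (𝟙 _) σ) (galAct_xK a E x hx σ τ hτ) hc

end Point

end Groth.Agent.Sga4h.H917.Eig
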