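import Groth.Agent.Sga4h.H917.TrH0

/-!
# The Galois action on `H⁰` and on global sections
-/

set_option autoImplicit false
universe u
open CategoryTheory CategoryTheory.Limits AlgebraicGeometry Opposite

namespace Groth.Agent.Sga4h.H917.GalH0

open Groth.Agent.Etcore.LocSec Groth.Agent.Etcore.LocEt Groth.Agent.Etcore.PullCoh
open Groth.Agent.Etcore.HpullCalc Groth.Agent.Etcore.EtInst
open Groth.Agent.Sga4h.H917.GSec Groth.Agent.Sga4h.H917.Desc Groth.Agent.Sga4h.H917.LocTr
open Groth.Agent.Sga4h.H917.TrH0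
open scoped Groth.Agent.Etcore.EtInst

variable {k : Type u} [Field k] {K : Type u} [Field K] [Algebra k K]
variable {X₀ : Scheme.{u}} (a : X₀ ⟶ Spec (CommRingCat.of k))
variable {Λ : Type} [Field Λ]

theorem h0_galLin [Fact FinFr.PullExact.{u}] (σ : K ≃ₐ[k] K) (L : EtLam.Sheaf Λ X₀)
    (x : EtCoh.H (FinFr.ext K a) (EtLam.pullback (FinFr.extπ K a) L).carrier 0) :
    h0 (EtLam.pullback (FinFr.extπ K a) L) (FinFr.galLin a σ L 0 x) =
      gpV (FinFr.galAct a σ) (FinFr.extπ K a) (FinFr.galAct_fst a σ) L.carrier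
        (h0 (EtLam.pullback (FinFr.extπ K a) L) x) :=
  H0_hpVia (FinFr.galAct a σ) (FinFr.extπ K a) (FinFr.extπ K a) (FinFr.galAct_fst a σ) L.carrier x

end Groth.Agent.Sga4h.H917.GalH0
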