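import Groth.Prelude.Def_LangSh
import Groth.Agent.Hensel.FiniteEtaleLift
import Mathlib.AlgebraicGeometry.Morphisms.FlatRank
import Mathlib.AlgebraicGeometry.Morphisms.Etale

/-!
# The power maps of `𝔾_m` and Kummer coverings

For a commutative ring `K`: `Gm K = Spec K[T;T⁻¹]`, `pw K d : Gm K ⟶ Gm K` (`T ↦ T^d`),
`scl u : Gm K ⟶ Gm K` (`T ↦ u T`).  `pw K d` is isomorphic to the covering `Spec` of the Kummer algebra
`K[T;T⁻¹][y]/(y^d - T)`; it is finite, étale, surjective, of rank `d` for `d` invertible in `K`.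
-/

set_option autoImplicit false
universe u

open CategoryTheory CategoryTheory.Limits AlgebraicGeometry Polynomial
open LaurentPolynomial (T C eval₂)
open scoped LaurentPolynomial

namespace Groth.Agent.Sga4h.H917.KumCover

section Algebra

variable {K : Type u} [CommRing K]

/-- Ring homomorphisms out of Laurent polynomials. -/
theorem ringHom_ext {S : Type*} [CommRing S] {f g : K[T;T⁻¹] →+* S}
    (h1 : ∀ a, f (LaurentPolynomial.C a) = g (LaurentPolynomial.C a))
    (h2 : f (LaurentPolynomial.T 1) = g (LaurentPolynomial.T 1)) : f = g := by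
  refine IsLocalization.ringHom_ext (Submonoid.powers (X : K[X])) ?_
  apply Polynomial.ringHom_ext
  · intro a
    have h3 : (algebraMap K[X] K[T;T⁻¹]) (Polynomial.C a) = LaurentPolynomial.C a := by
      rw [LaurentPolynomial.algebraMap_eq_toLaurent, Polynomial.toLaurent_C]
    rw [RingHom.comp_apply, RingHom.comp_apply, h3, h1]
  · have h3 : (algebraMap K[X] K[T;T⁻¹]) X = LaurentPolynomial.T 1 := by
      rw [LaurentPolynomial.algebraMap_eq_toLaurent, Polynomial.toLaurent_X]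
    rw [RingHom.comp_apply, RingHom.comp_apply, h3, h2]

/-- The unit `T`. -/
noncomputable def uT (K : Type u) [CommRing K] : (K[T;T⁻¹])ˣ where
  val := LaurentPolynomial.T 1
  inv := LaurentPolynomial.T (-1)
  val_inv := by rw [← LaurentPolynomial.T_add]; simp
  inv_val := by rw [← LaurentPolynomial.T_add]; simp

@[simp] theorem coe_uT : (uT K : K[T;T⁻¹]) = LaurentPolynomial.T 1 := rfl

/-- The endomorphism `T ↦ v`. -/
noncomputable def toEnd (v : (K[T;T⁻¹])ˣ) : K[T;T⁻¹] →+* K[T;T⁻¹] :=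
  LaurentPolynomial.eval₂ LaurentPolynomial.C v

@[simp] theorem toEnd_C (v : (K[T;T⁻¹])ˣ) (a : K) :
    toEnd v (LaurentPolynomial.C a) = LaurentPolynomial.C a := LaurentPolynomial.eval₂_C _ _ _

@[simp] theorem toEnd_T (v : (K[T;T⁻¹])ˣ) : toEnd v (LaurentPolynomial.T 1) = v := by
  have := LaurentPolynomial.eval₂_T_n (LaurentPolynomial.C : K →+* K[T;T⁻¹]) v 1
  rw [Nat.cast_one, pow_one] at this
  exact this

/-- `T ↦ T ^ d`. -/
noncomputable abbrev phi (K : Type u) [CommRing K] (d : ℕ) : K[T;T⁻¹] →+* K[T;T⁻¹] := toEnd (uT K ^ d)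

/-- `T ↦ c T`. -/
noncomputable abbrev sclHom (c : Kˣ) : K[T;T⁻¹] →+* K[T;T⁻¹] :=
  toEnd (Units.map (LaurentPolynomial.C : K →+* K[T;T⁻¹]).toMonoidHom c * uT K)

theorem phi_T (d : ℕ) : phi K d (LaurentPolynomial.T 1) = LaurentPolynomial.T d := by
  rw [toEnd_T, Units.val_pow_eq_pow_val, coe_uT, LaurentPolynomial.T_pow, mul_one]

theorem phi_T' (d : ℕ) : phi K d (LaurentPolynomial.T 1) = LaurentPolynomial.T 1 ^ d := by
  rw [toEnd_T, Units.val_pow_eq_pow_val, coe_uT]

theorem phi_comp (d e : ℕ) : (phi K e).comp (phi K d) = phi K (d * e) := by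
  apply ringHom_ext
  · intro a; simp
  · rw [RingHom.comp_apply, phi_T', phi_T', map_pow, phi_T', ← pow_mul, mul_comm]

theorem sclHom_T (c : Kˣ) : sclHom c (LaurentPolynomial.T 1) =
    LaurentPolynomial.C (c : K) * LaurentPolynomial.T 1 := by
  rw [toEnd_T, Units.val_mul, coe_uT]
  rfl

theorem sclHom_comp (c c' : Kˣ) : (sclHom c).comp (sclHom c') = sclHom (c * c') := by
  apply ringHom_ext
  · intro a; simp
  · rw [RingHom.comp_apply, sclHom_T, sclHom_T, map_mul, toEnd_C, sclHom_T, ← mul_assoc, ← map_mul,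
      Units.val_mul, mul_comm (c' : K)]

theorem sclHom_one : sclHom (1 : Kˣ) = RingHom.id _ := by
  apply ringHom_ext
  · intro a; simp
  · rw [sclHom_T]; simp

theorem sclHom_phi (c : Kˣ) (d : ℕ) (hc : c ^ d = 1) : (sclHom c).comp (phi K d) = phi K d := by
  apply ringHom_ext
  · intro a; simp
  · rw [RingHom.comp_apply, phi_T', map_pow, sclHom_T, mul_pow, ← map_pow, ← Units.val_pow_eq_pow_val,
      hc]
    simp

/-! ### Comparison with the Kummer algebra -/

variable (K) in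
/-- The Kummer algebra of the coordinate. -/
abbrev Kum (d : ℕ) : Type u := LangSh.KumAlg K[T;T⁻¹] d (LaurentPolynomial.T 1 : K[T;T⁻¹])

theorem root_pow (d : ℕ) : (AdjoinRoot.root (X ^ d - Polynomial.C (LaurentPolynomial.T 1) : K[T;T⁻¹][X])) ^ d =
    AdjoinRoot.of _ (LaurentPolynomial.T 1 : K[T;T⁻¹]) := by
  have h := AdjoinRoot.eval₂_root (X ^ d - Polynomial.C (LaurentPolynomial.T 1) : K[T;T⁻¹][X])
  rw [eval₂_sub, eval₂_X_pow, eval₂_C, sub_eq_zero] at h
  exact h

/-- `root ↦ T`, `a ↦ phi a`. -/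
noncomputable def kumTo (K : Type u) [CommRing K] (d : ℕ) : Kum K d →+* K[T;T⁻¹] :=
  AdjoinRoot.lift (phi K d) (LaurentPolynomial.T 1) (by
    rw [eval₂_sub, eval₂_X_pow, eval₂_C, phi_T', sub_self])

theorem kumTo_of (d : ℕ) (a : K[T;T⁻¹]) : kumTo K d (algebraMap _ _ a) = phi K d a :=
  AdjoinRoot.lift_of _

theorem kumTo_root (d : ℕ) : kumTo K d (AdjoinRoot.root _) = LaurentPolynomial.T 1 :=
  AdjoinRoot.lift_root _

/-- The root as a unit. -/
noncomputable def rootUnit (K : Type u) [CommRing K] (d : ℕ) (hd : d ≠ 0) : (Kum K d)ˣ :=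
  ((isUnit_pow_iff hd).1 (by
    rw [root_pow]
    exact (LaurentPolynomial.isUnit_T 1).map _) :
      IsUnit (AdjoinRoot.root (X ^ d - Polynomial.C (LaurentPolynomial.T 1) : K[T;T⁻¹][X]))).unit

theorem coe_rootUnit (d : ℕ) (hd : d ≠ 0) :
    (rootUnit K d hd : Kum K d) = AdjoinRoot.root _ := rfl

/-- The inverse. -/
noncomputable def kumFrom (K : Type u) [CommRing K] (d : ℕ) (hd : d ≠ 0) : K[T;T⁻¹] →+* Kum K d :=
  LaurentPolynomial.eval₂ ((AdjoinRoot.of _).comp LaurentPolynomial.C) (rootUnit K d hd)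

theorem kumFrom_C (d : ℕ) (hd : d ≠ 0) (a : K) :
    kumFrom K d hd (LaurentPolynomial.C a) = AdjoinRoot.of _ (LaurentPolynomial.C a) :=
  LaurentPolynomial.eval₂_C _ _ _

theorem kumFrom_T (d : ℕ) (hd : d ≠ 0) :
    kumFrom K d hd (LaurentPolynomial.T 1) = AdjoinRoot.root _ := by
  have := LaurentPolynomial.eval₂_T_n (((AdjoinRoot.of (X ^ d - Polynomial.C (LaurentPolynomial.T 1) :
    K[T;T⁻¹][X]))).comp LaurentPolynomial.C) (rootUnit K d hd) 1
  rw [Nat.cast_one, pow_one] at this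
  exact this

theorem kumFrom_phi (d : ℕ) (hd : d ≠ 0) :
    (kumFrom K d hd).comp (phi K d) = AdjoinRoot.of _ := by
  apply ringHom_ext
  · intro a; rw [RingHom.comp_apply, toEnd_C, kumFrom_C]
  · rw [RingHom.comp_apply, phi_T', map_pow, kumFrom_T, root_pow]

/-- The Kummer algebra is `K[T;T⁻¹]` via `phi`. -/
noncomputable def kumEquiv (K : Type u) [CommRing K] (d : ℕ) (hd : d ≠ 0) : Kum K d ≃+* K[T;T⁻¹] :=
  RingEquiv.ofRingHom (kumTo K d) (kumFrom K d hd) (by
    apply ringHom_ext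
    · intro a
      rw [RingHom.comp_apply, kumFrom_C]
      exact (kumTo_of d _).trans (by simp)
    · rw [RingHom.comp_apply, kumFrom_T, kumTo_root, RingHom.id_apply]) (by
    apply AdjoinRoot.ringHom_ext
    · refine RingHom.ext fun a => ?_
      have h1 : kumTo K d (AdjoinRoot.of _ a) = phi K d a := kumTo_of d a
      have h2 : kumFrom K d hd (phi K d a) = AdjoinRoot.of _ a := congrArg (fun k => k a) (kumFrom_phi d hd)
      exact (congrArg (kumFrom K d hd) h1).trans h2
    · rw [RingHom.comp_apply, kumTo_root, kumFrom_T, RingHom.id_apply])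

end Algebra

end Groth.Agent.Sga4h.H917.KumCover
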