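import Groth.Agent.Sga4h.H917.ConstOn
import Groth.Agent.Etcore.HpullViaEq

/-!
# Trivialised sheaves of rank one: generators, pull-back, traces

`G` an abelian étale sheaf on `Z` with operators `A r` (`r : Λ`) and `e : G ≅ Λ` linear.
-/

set_option autoImplicit false
universe u
open CategoryTheory CategoryTheory.Limits AlgebraicGeometry Opposite

namespace Groth.Agent.Sga4h.H917.LocTr

open Groth.Agent.Etcore.LocSec Groth.Agent.Etcore.LocEt Groth.Agent.Etcore.PullCoh
open Groth.Agent.Etcore.HpullCalc Groth.Agent.Etcore.EtInst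
open Groth.Agent.Sga4h.H917.GSec Groth.Agent.Sga4h.H917.Desc
open scoped Groth.Agent.Etcore.EtInst

section Triv

variable {Λ : Type} [Field Λ] {Z : Scheme.{u}} {G : EtCoh.Ab Z}

/-- The generator. -/
noncomputable def one (e : G ≅ EtCoh.const Z Λ) : EtCoh.sect G (EtCoh.top Z) :=
  app e.inv _ (cst Z Λ (ULift.up 1))

theorem app_hom_one (e : G ≅ EtCoh.const Z Λ) : app e.hom _ (one e) = cst Z Λ (ULift.up 1) := by
  rw [one, ← app_comp, Iso.inv_hom_id, app_id]

variable {e : G ≅ EtCoh.const Z Λ}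

theorem eq_one_of_app {s : EtCoh.sect G (EtCoh.top Z)}
    (h : app e.hom _ s = cst Z Λ (ULift.up 1)) : s = one e := by
  apply (app_bijective e.hom _).1
  rw [h, app_hom_one]

variable {A : Λ → (G ⟶ G)} (he : ∀ r : Λ, A r ≫ e.hom = e.hom ≫ FinFr.constSMul Z r)
include he

theorem app_hom_act (r : Λ) : app e.hom _ (app (A r) _ (one e)) = cst Z Λ (ULift.up r) := by
  rw [← app_comp, he, app_comp, app_hom_one, app_constSMul, mul_one]

theorem exists_act [ConnectedSpace Z] (s : EtCoh.sect G (EtCoh.top Z)) :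
    ∃ r : Λ, s = app (A r) _ (one e) := by
  obtain ⟨⟨r⟩, hr⟩ := (cst_bijective Z Λ).2 (app e.hom _ s)
  refine ⟨r, (app_bijective e.hom _).1 ?_⟩
  rw [app_hom_act he, hr]

theorem act_inj [ConnectedSpace Z] {r r' : Λ}
    (h : app (A r) _ (one e) = app (A r') _ (one e)) : r = r' := by
  have h1 := congrArg (app e.hom _) h
  rw [app_hom_act he, app_hom_act he] at h1
  exact congrArg ULift.down ((cst_bijective Z Λ).1 h1)

end Triv

/-- The trace of an endomorphism of a one-dimensional space. -/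
theorem trace_one_dim {Λ : Type} [Field Λ] {V : Type*} [AddCommGroup V] [Module Λ V] (T : V →ₗ[Λ] V)
    (v : V) (hv : v ≠ 0) (hgen : ∀ w : V, ∃ r : Λ, r • v = w) (c : Λ) (hTv : T v = c • v) :
    LinearMap.trace Λ _ T = c := by
  have hfr : Module.finrank Λ V = 1 := (finrank_eq_one_iff_of_nonzero' v hv).2 hgen
  have : Module.Finite Λ V := Module.finite_of_finrank_eq_succ hfr
  have hTc : T = c • LinearMap.id := by
    ext w
    obtain ⟨r, rfl⟩ := hgen w
    rw [map_smul, hTv, LinearMap.smul_apply, LinearMap.id_apply, smul_comm]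
  rw [hTc, map_smul, LinearMap.trace_id, hfr, Nat.cast_one, smul_eq_mul, mul_one]

section Pull

variable {Λ : Type} [Field Λ] {X Z Z' : Scheme.{u}} {L : EtCoh.Ab X} (t : Z ⟶ X)
  (e : (EtCoh.pull t).obj L ≅ EtCoh.const Z Λ) {B : Λ → (L ⟶ L)}
  (he : ∀ r : Λ, (EtCoh.pull t).map (B r) ≫ e.hom = e.hom ≫ FinFr.constSMul Z r)
  (x : Z' ⟶ Z) {t' : Z' ⟶ X} (w : x ≫ t = t')

/-- Pull-back of a trivialisation. -/
noncomputable def pe : (EtCoh.pull t').obj L ≅ EtCoh.const Z' Λ :=
  (asIso (thh x t w L)).symm ≪≫ (EtCoh.pull x).mapIso e ≪≫ EtCore.pullConst x Λ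

theorem pe_hom : (pe t e x w).hom = inv (thh x t w L) ≫ (EtCoh.pull x).map e.hom ≫
    (EtCore.pullConst x Λ).hom := rfl

include he in
theorem pe_lin (r : Λ) : (EtCoh.pull t').map (B r) ≫ (pe t e x w).hom =
    (pe t e x w).hom ≫ FinFr.constSMul Z' r := by
  have h1 := thh_nat x t w (B r)
  have h2 : (EtCoh.pull x).map ((EtCoh.pull t).map (B r)) ≫ (EtCoh.pull x).map e.hom =
      (EtCoh.pull x).map e.hom ≫ (EtCoh.pull x).map (FinFr.constSMul Z r) := by
    rw [← Functor.map_comp, ← Functor.map_comp]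
    exact congrArg _ (he r)
  have h3 : (EtCoh.pull x).map (FinFr.constSMul Z r) ≫ (EtCore.pullConst x Λ).hom =
      (EtCore.pullConst x Λ).hom ≫ FinFr.constSMul Z' r :=
    (EtCore.pullConstIso x).hom.naturality _
  have h4 : (EtCoh.pull t').map (B r) ≫ inv (thh x t w L) =
      inv (thh x t w L) ≫ (EtCoh.pull x).map ((EtCoh.pull t).map (B r)) := by
    rw [IsIso.comp_inv_eq, Category.assoc, h1, IsIso.inv_hom_id_assoc]
  rw [pe_hom, ← Category.assoc, h4, Category.assoc, Category.assoc, Category.assoc, ← h3,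
    ← Category.assoc ((EtCoh.pull x).map ((EtCoh.pull t).map (B r))), h2, Category.assoc]

theorem gpV_one : gpV x t w L (one e) = one (pe t e x w) := by
  apply eq_one_of_app
  rw [pe_hom, app_comp, app_comp, gpV_apply]
  have h1 : app (inv (thh x t w L)) _ (app (thh x t w L) (EtCoh.top Z')
      (gp x _ (one e))) = gp x _ (one e) := by
    rw [← app_comp, IsIso.hom_inv_id, app_id]
  rw [h1, ← gp_map, app_hom_one, gp_cst]

/-- Trivialisation of an iterated pull-back. -/
noncomputable def ce {X' : Scheme.{u}} (p : X' ⟶ X) (s : Z' ⟶ X') (w' : s ≫ p = t')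
    (e' : (EtCoh.pull t').obj L ≅ EtCoh.const Z' Λ) :
    (EtCoh.pull s).obj ((EtCoh.pull p).obj L) ≅ EtCoh.const Z' Λ :=
  asIso (thh s p w' L) ≪≫ e'

theorem ce_lin {X' : Scheme.{u}} (p : X' ⟶ X) (s : Z' ⟶ X') (w' : s ≫ p = t')
    (e' : (EtCoh.pull t').obj L ≅ EtCoh.const Z' Λ)
    (he' : ∀ r : Λ, (EtCoh.pull t').map (B r) ≫ e'.hom = e'.hom ≫ FinFr.constSMul Z' r) (r : Λ) :
    (EtCoh.pull s).map ((EtCoh.pull p).map (B r)) ≫ (ce p s w' e').hom =
      (ce p s w' e').hom ≫ FinFr.constSMul Z' r := by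
  have h1 := thh_nat s p w' (B r)
  have h2 : (ce p s w' e').hom = thh s p w' L ≫ e'.hom := rfl
  rw [h2, ← Category.assoc, h1, Category.assoc, Category.assoc, he']

theorem app_thh_one {X' : Scheme.{u}} (p : X' ⟶ X) (s : Z' ⟶ X') (w' : s ≫ p = t')
    (e' : (EtCoh.pull t').obj L ≅ EtCoh.const Z' Λ) :
    app (thh s p w' L) _ (one (ce p s w' e')) = one e' := by
  apply eq_one_of_app
  rw [← app_comp]
  exact app_hom_one (ce p s w' e')

end Pull

end Groth.Agent.Sga4h.H917.LocTr
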