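import Groth.Agent.Sga4h.H917.LocTr

/-!
# Trace on `H⁰` of a sheaf isomorphic to `Λ`
-/

set_option autoImplicit false
universe u
open CategoryTheory CategoryTheory.Limits AlgebraicGeometry Opposite

namespace Groth.Agent.Sga4h.H917.TrH0

open Groth.Agent.Etcore.LocSec Groth.Agent.Etcore.LocEt Groth.Agent.Etcore.PullCoh
open Groth.Agent.Etcore.HpullCalc Groth.Agent.Etcore.EtInst
open Groth.Agent.Sga4h.H917.GSec Groth.Agent.Sga4h.H917.Desc Groth.Agent.Sga4h.H917.LocTr
open scoped Groth.Agent.Etcore.EtInst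

variable {Λ : Type} [Field Λ] {Z : Scheme.{u}} (F : EtLam.Sheaf Λ Z)

/-- Degree zero cohomology is global sections. -/
noncomputable def h0 : EtCoh.H Z F.carrier 0 → EtCoh.sect F.carrier (EtCoh.top Z) :=
  fun x => H0 Z F.carrier x

theorem h0_bijective : Function.Bijective (h0 F) := (H0 Z F.carrier).bijective

theorem h0_smul (r : Λ) (x : EtCoh.H Z F.carrier 0) : h0 F (r • x) = app (F.act r) _ (h0 F x) :=
  H0_map (F.act r) x

variable {F}

/-- The trace of an endomorphism of `H⁰` of a sheaf isomorphic to `Λ`. -/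
theorem trace_eq [ConnectedSpace Z] (e : F.carrier ≅ EtCoh.const Z Λ)
    (he : ∀ r : Λ, F.act r ≫ e.hom = e.hom ≫ FinFr.constSMul Z r)
    (T : EtCoh.H Z F.carrier 0 →ₗ[Λ] EtCoh.H Z F.carrier 0) (c : Λ)
    (hT : ∀ x : EtCoh.H Z F.carrier 0, h0 F x = one e → h0 F (T x) = app (F.act c) _ (one e)) :
    LinearMap.trace Λ _ T = c := by
  obtain ⟨v, hv⟩ := (h0_bijective F).2 (one e)
  have hv0 : v ≠ 0 := by
    intro h
    have h1 : h0 F ((1 : Λ) • v) = h0 F ((0 : Λ) • v) := by rw [h, smul_zero, smul_zero]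
    rw [h0_smul, h0_smul, hv] at h1
    exact one_ne_zero (act_inj (A := F.act) he h1)
  refine trace_one_dim T v hv0 (fun w => ?_) c ?_
  · obtain ⟨r, hr⟩ := exists_act (A := F.act) he (h0 F w)
    refine ⟨r, (h0_bijective F).1 ?_⟩
    rw [h0_smul, hv, hr]
  · apply (h0_bijective F).1
    rw [hT v hv, h0_smul, hv]

end Groth.Agent.Sga4h.H917.TrH0
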