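import Groth.Agent.Sga4h.H917.Eig

/-!
# The trace function of a sheaf of rank one which is geometrically constant

`exists_locTrace_eq`: the local trace at a point with values in `E` is `c ^ [E : k]`.
-/

set_option autoImplicit false
universe u
open CategoryTheory CategoryTheory.Limits AlgebraicGeometry Opposite

namespace Groth.Agent.Sga4h.H917.TraceFun

open Groth.Agent.Sga4h.H917.Eig Groth.Agent.Sga4h.H917.EigAbs

variable {k : Type u} [Field k] [Fintype k] {K : Type u} [Field K] [Algebra k K]
  [Algebra.IsAlgebraic k K]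

omit [Algebra.IsAlgebraic k K] in
theorem finite_of_fintype (E : IntermediateField k K) [Fintype E] : Module.Finite k E :=
  Module.Finite.of_finite

theorem arith_symm (E : IntermediateField k K) [Fintype E] [Algebra.IsAlgebraic E K] (y : K) :
    (((FinFr.arith k K).symm : K ≃ₐ[k] K) ^ Module.finrank k E) y = (FinFr.arith E K).symm y := by
  have hfin := finite_of_fintype E
  have h1 : ∀ z : K, ((FinFr.arith k K : K ≃ₐ[k] K) ^ Module.finrank k E) z = FinFr.arith E K z := by
    intro z
    rw [AlgEquiv.coe_pow, FiniteField.coe_frobeniusAlgEquivOfAlgebraic_iterate]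
    change z ^ _ = z ^ Fintype.card E
    rw [Module.card_eq_pow_finrank (K := k) (V := E)]
  have h2 : ((FinFr.arith k K : K ≃ₐ[k] K) ^ Module.finrank k E) *
      (((FinFr.arith k K).symm : K ≃ₐ[k] K) ^ Module.finrank k E) = 1 := by
    have h3 : ((FinFr.arith k K).symm : K ≃ₐ[k] K) = (FinFr.arith k K)⁻¹ := rfl
    rw [h3, inv_pow, mul_inv_cancel]
  apply ((FinFr.arith k K : K ≃ₐ[k] K) ^ Module.finrank k E).injective
  have h4 := congrArg (fun f : K ≃ₐ[k] K => f y) h2
  have h5 : ((FinFr.arith k K : K ≃ₐ[k] K) ^ Module.finrank k E)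
      ((((FinFr.arith k K).symm : K ≃ₐ[k] K) ^ Module.finrank k E) y) = y := h4
  rw [h5, h1, AlgEquiv.apply_symm_apply]

variable {X₀ : Scheme.{u}} (a : X₀ ⟶ Spec (CommRingCat.of k)) {Λ : Type} [Field Λ]
  [Fact FinFr.PullExact.{u}]

/-- **The trace function of a geometrically constant sheaf of rank one.** -/
theorem exists_locTrace_eq (L : EtLam.Sheaf Λ X₀) [ConnectedSpace (FinFr.ext K a)]
    (hL : LangSh.IsConstOn (FinFr.extπ K a) L) :
    ∃ c : Λ, ∀ (E : IntermediateField k K) [Fintype E] (x : Spec (CommRingCat.of E) ⟶ X₀)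
      (_ : x ≫ a = Spec.map (CommRingCat.ofHom (algebraMap k E))),
      haveI : Algebra.IsAlgebraic E K := Algebra.IsAlgebraic.tower_top (K := k) E
      FinFr.locTrace (K := K) x L = c ^ Module.finrank k E := by
  obtain ⟨e, he⟩ := hL
  obtain ⟨c, hc⟩ := exists_isEig (B := L.act) (e := e) he (FinFr.galAct a (FinFr.arith k K).symm)
    (FinFr.galAct_fst a _)
  refine ⟨c, fun E _ x hx => ?_⟩
  have : Algebra.IsAlgebraic E K := Algebra.IsAlgebraic.tower_top (K := k) E
  have hfin := finite_of_fintype E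
  obtain ⟨n, hn⟩ := Nat.exists_eq_succ_of_ne_zero (Module.finrank_pos (R := k) (M := E)).ne'
  have h1 := isEig_pow a (FinFr.arith k K).symm c hc n
  rw [Nat.succ_eq_add_one] at hn
  refine trace_eq_eig a E x hx L e he (FinFr.arith E K).symm
    (((FinFr.arith k K).symm : K ≃ₐ[k] K) ^ (n + 1)) (fun y => ?_) (c ^ Module.finrank k E) ?_
  · rw [← hn]
    exact arith_symm E y
  · rw [hn]
    exact h1

end Groth.Agent.Sga4h.H917.TraceFun
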